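import Cfsg.Agent.Omega.Lin.Cnt

/-!
# THEOREM (C+) (helper933, #22887), the counts

`M` acts on the elementary abelian `2`-group `Y`; `B ≤ M` commutes with `a ∈ M`; exactness: `|E : C_E(B)| ≤ |B : C_B(E)|`
for all `⟨B, a⟩`-invariant `E` which contain `V`.

* `Exa.le` : vectors of `E + E ^ a` which are independent modulo `C(B)`;
* `Exa.lemX` : LEMMA X, additively.
-/

set_option autoImplicit false
set_option linter.unusedSectionVars false

namespace Cfsg.Agent.Omega.NO3S.SN2.CPlus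

universe u

variable {M Y : Type u} [Group M] [AddCommGroup Y] [Module (ZMod 2) Y] [DistribMulAction M Y]

theorem zc (c : ZMod 2) : c = 0 ∨ c = 1 := by
  revert c; decide

theorem gs (g : M) (c : ZMod 2) (y : Y) : g • (c • y) = c • (g • y) := by
  rcases zc c with rfl | rfl
  · rw [zero_smul, zero_smul, smul_zero]
  · rw [one_smul, one_smul]

theorem two (y : Y) : y + y = 0 := by
  have h : (1 + 1 : ZMod 2) • y = 0 := by
    have : (1 + 1 : ZMod 2) = 0 := by decide
    rw [this, zero_smul]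
  rwa [add_smul, one_smul] at h

theorem neg_eq (y : Y) : -y = y := neg_eq_of_add_eq_zero_left (two y)

theorem sub_eq (x y : Y) : x - y = x + y := by rw [sub_eq_add_neg, neg_eq]

theorem eq_iff {x y : Y} : x = y ↔ x + y = 0 := by rw [← sub_eq, sub_eq_zero]

/-- `C_Y(B)` -/
def fx (Y : Type u) [AddCommGroup Y] [DistribMulAction M Y] (B : Subgroup M) : AddSubgroup Y where
  carrier := {y | ∀ b ∈ B, b • y = y}
  add_mem' := fun hx hy b hb => by rw [smul_add, hx b hb, hy b hb]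
  zero_mem' := fun b _ => smul_zero b
  neg_mem' := fun hx b hb => by rw [smul_neg, hx b hb]

theorem mem_fx {B : Subgroup M} {y : Y} : y ∈ fx Y B ↔ ∀ b ∈ B, b • y = y := Iff.rfl

/-- `C_B(E)` -/
def cn (B : Subgroup M) (E : AddSubgroup Y) : Subgroup M where
  carrier := {b | b ∈ B ∧ ∀ e ∈ E, b • e = e}
  mul_mem' := fun hx hy => ⟨mul_mem hx.1 hy.1, fun e he => by rw [mul_smul, hy.2 e he, hx.2 e he]⟩
  one_mem' := ⟨one_mem _, fun e _ => one_smul _ e⟩
  inv_mem' := fun hx => ⟨inv_mem hx.1, fun e he => by rw [inv_smul_eq_iff, hx.2 e he]⟩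

theorem mem_cn {B : Subgroup M} {E : AddSubgroup Y} {b : M} : b ∈ cn B E ↔ b ∈ B ∧ ∀ e ∈ E, b • e = e := Iff.rfl

/-- the action of one element -/
def ac (Y : Type u) [AddCommGroup Y] [DistribMulAction M Y] (a : M) : Y →+ Y := DistribSMul.toAddMonoidHom Y a

theorem ac_apply (a : M) (y : Y) : ac Y a y = a • y := rfl

/-- `E + E ^ a` -/
def dbl (a : M) (E : AddSubgroup Y) : AddSubgroup Y := E ⊔ E.map (ac Y a)

theorem le_dbl {a : M} {E : AddSubgroup Y} : E ≤ dbl a E := le_sup_left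

theorem mem_dbl_a {a : M} {E : AddSubgroup Y} {e : Y} (he : e ∈ E) : a • e ∈ dbl a E :=
  (le_sup_right : E.map (ac Y a) ≤ dbl a E) ⟨e, he, rfl⟩

theorem mem_dbl {a : M} {E : AddSubgroup Y} {y : Y} : y ∈ dbl a E ↔ ∃ e ∈ E, ∃ f ∈ E, y = e + a • f := by
  constructor
  · intro h
    obtain ⟨e, he, z, ⟨f, hf, rfl⟩, rfl⟩ := AddSubgroup.mem_sup.1 h
    exact ⟨e, he, f, hf, rfl⟩
  · rintro ⟨e, he, f, hf, rfl⟩
    exact add_mem (le_dbl he) (mem_dbl_a hf)

/-- exactness -/
structure Exa (V : AddSubgroup Y) (B : Subgroup M) (a : M) : Prop where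
  finM : Finite M
  finY : Finite Y
  aB : ∀ b ∈ B, a * b = b * a
  BV : ∀ b ∈ B, ∀ v ∈ V, b • v = v
  aV : ∀ v ∈ V, a • v ∈ V
  aa : ∀ y : Y, a • a • y = y
  ex : ∀ E : AddSubgroup Y, V ≤ E → (∀ b ∈ B, ∀ u ∈ E, b • u ∈ E) → (∀ u ∈ E, a • u ∈ E) →
    Nat.card E * Nat.card ↥(cn B E) ≤ Nat.card B * Nat.card ↥(E ⊓ fx Y B)
  fix : ∀ u : Y, (∀ b ∈ B, b • u = u) → a • u + u ∈ V

/-- independent vectors modulo `F` -/
theorem card_ind [Finite Y] {E F : AddSubgroup Y} {n : ℕ} (v : Fin n → Y) (hv : ∀ i, v i ∈ E) (FE : F ≤ E)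
    (hind : ∀ c : Fin n → ZMod 2, ∑ i, c i • v i ∈ F → c = 0) : 2 ^ n * Nat.card F ≤ Nat.card E := by
  have hc : Nat.card ((Fin n → ZMod 2) × F) = 2 ^ n * Nat.card F := by
    rw [Nat.card_prod, Nat.card_eq_fintype_card, Fintype.card_pi]
    simp [ZMod.card]
  rw [← hc]
  have hm : ∀ c : Fin n → ZMod 2, ∑ i, c i • v i ∈ E := fun c => by
    refine sum_mem fun i _ => ?_
    rcases zc (c i) with h | h
    · rw [h, zero_smul]; exact zero_mem _
    · rw [h, one_smul]; exact hv i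
  refine Nat.card_le_card_of_injective
    (fun p : (Fin n → ZMod 2) × F => (⟨∑ i, p.1 i • v i + p.2, add_mem (hm _) (FE p.2.2)⟩ : E)) ?_
  rintro ⟨c, f⟩ ⟨c', f'⟩ h
  have h1 : ∑ i, c i • v i + (f : Y) = ∑ i, c' i • v i + (f' : Y) := congrArg Subtype.val h
  have h2 : ∑ i, (c - c') i • v i = f' - f := by
    have : ∑ i, (c - c') i • v i = ∑ i, c i • v i - ∑ i, c' i • v i := by
      rw [← Finset.sum_sub_distrib]
      refine Finset.sum_congr rfl fun i _ => ?_
      rw [Pi.sub_apply, sub_smul]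
    rw [this, sub_eq_sub_iff_add_eq_add, h1, add_comm]
  have h3 : c - c' = 0 := hind _ (by rw [h2]; exact sub_mem f'.2 f.2)
  have h4 : c = c' := sub_eq_zero.1 h3
  subst h4
  have h5 : (f : Y) = f' := add_left_cancel h1
  rw [Subtype.ext h5]

/-- separation -/
theorem card_sep [Finite M] {X B : Subgroup M} {β : Type*} [Finite β] (g : M → β)
    (h : ∀ b ∈ B, ∀ b' ∈ B, g b = g b' → b⁻¹ * b' ∈ X) : Nat.card B ≤ Nat.card β * Nat.card X := by
  classical
  have hX : Nat.card (X.subgroupOf B) ≤ Nat.card X :=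
    Nat.card_le_card_of_injective (fun x : X.subgroupOf B => (⟨(x : B), Subgroup.mem_subgroupOf.1 x.2⟩ : X))
      fun x y hxy => Subtype.ext (Subtype.ext (congrArg (fun z : X => (z : M)) hxy))
  have e : Nat.card B = Nat.card (B ⧸ X.subgroupOf B) * Nat.card (X.subgroupOf B) :=
    Subgroup.card_eq_card_quotient_mul_card_subgroup _
  rw [e]
  refine Nat.mul_le_mul (Nat.card_le_card_of_injective (fun q : B ⧸ X.subgroupOf B => g (q.out : B)) ?_) hX
  intro p q hpq
  rw [← QuotientGroup.out_eq' p, ← QuotientGroup.out_eq' q, QuotientGroup.eq, Subgroup.mem_subgroupOf]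
  exact h _ (p.out : B).2 _ (q.out : B).2 hpq

namespace Exa

variable {V : AddSubgroup Y} {B : Subgroup M} {a : M} (h : Exa V B a)
include h

theorem ab (b : M) (hb : b ∈ B) (y : Y) : a • b • y = b • a • y := by
  rw [← mul_smul, h.aB b hb, mul_smul]

theorem dbl_B {E : AddSubgroup Y} (hB : ∀ b ∈ B, ∀ u ∈ E, b • u ∈ E) : ∀ b ∈ B, ∀ u ∈ dbl a E, b • u ∈ dbl a E := by
  intro b hb u hu
  obtain ⟨e, he, f, hf, rfl⟩ := mem_dbl.1 hu
  rw [smul_add, ← h.ab b hb]
  exact mem_dbl.2 ⟨_, hB b hb e he, _, hB b hb f hf, rfl⟩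

theorem dbl_a {E : AddSubgroup Y} : ∀ u ∈ dbl a E, a • u ∈ dbl a E := by
  intro u hu
  obtain ⟨e, he, f, hf, rfl⟩ := mem_dbl.1 hu
  rw [smul_add, h.aa, add_comm]
  exact mem_dbl.2 ⟨_, hf, _, he, rfl⟩

theorem cn_dbl {E : AddSubgroup Y} : cn B (dbl a E) = cn B E := by
  apply le_antisymm
  · exact fun b hb => ⟨hb.1, fun e he => hb.2 e (le_dbl he)⟩
  · intro b hb
    refine ⟨hb.1, fun u hu => ?_⟩
    obtain ⟨e, he, f, hf, rfl⟩ := mem_dbl.1 hu
    rw [smul_add, ← h.ab b hb.1, hb.2 e he, hb.2 f hf]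

theorem exd {E : AddSubgroup Y} (hV : V ≤ E) (hB : ∀ b ∈ B, ∀ u ∈ E, b • u ∈ E) :
    Nat.card ↥(dbl a E) * Nat.card ↥(cn B E) ≤ Nat.card B * Nat.card ↥(dbl a E ⊓ fx Y B) := by
  have := h.ex (dbl a E) (hV.trans le_dbl) (h.dbl_B hB) h.dbl_a
  rwa [h.cn_dbl] at this

theorem le {E : AddSubgroup Y} (hV : V ≤ E) (hB : ∀ b ∈ B, ∀ u ∈ E, b • u ∈ E) {n : ℕ} (v : Fin n → Y)
    (hv : ∀ i, v i ∈ dbl a E)
    (hind : ∀ c : Fin n → ZMod 2, (∀ b ∈ B, b • (∑ i, c i • v i) = ∑ i, c i • v i) → c = 0) :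
    2 ^ n * Nat.card ↥(cn B E) ≤ Nat.card B := by
  have := h.finY
  have := h.finM
  have h1 := h.exd hV hB
  have h2 := card_ind (E := dbl a E) (F := dbl a E ⊓ fx Y B) v hv inf_le_left fun c hc => hind c hc.2
  have h3 : 0 < Nat.card ↥(dbl a E ⊓ fx Y B) := Nat.card_pos
  refine Nat.le_of_mul_le_mul_right ?_ h3
  calc 2 ^ n * Nat.card ↥(cn B E) * Nat.card ↥(dbl a E ⊓ fx Y B)
      = 2 ^ n * Nat.card ↥(dbl a E ⊓ fx Y B) * Nat.card ↥(cn B E) := by ring
    _ ≤ Nat.card ↥(dbl a E) * Nat.card ↥(cn B E) := Nat.mul_le_mul_right _ h2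
    _ ≤ _ := h1

/-- **LEMMA X**, additively -/
theorem lemX {E : AddSubgroup Y} (hV : V ≤ E) (hB : ∀ b ∈ B, ∀ u ∈ E, b • u ∈ E) {B₁ : Subgroup M} (h1 : B₁ ≤ B)
    (hc : cn B E ≤ B₁) {z : Y} (hz : z ∈ V) (haz : a • z ≠ z)
    (hp : ∀ b ∈ B₁, ∀ e ∈ E, b • e = e ∨ b • e = e + z) :
    Nat.card E * Nat.card B₁ ≤ Nat.card B * Nat.card ↥(E ⊓ fx Y B) := by
  classical
  have := h.finY
  have := h.finM
  have hz0 : z ≠ 0 := by
    rintro rfl
    exact haz (smul_zero a)
  set E1 : AddSubgroup Y := E ⊓ fx Y B₁ with hE1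
  have key : ∀ e ∈ E, ∀ f ∈ E, (∀ b ∈ B, b • (e + a • f) = e + a • f) → e ∈ E1 := by
    intro e he f hf hh
    refine ⟨he, fun b hb => ?_⟩
    have h2 := hh b (h1 hb)
    rw [smul_add, ← h.ab b (h1 hb)] at h2
    rcases hp b hb e he with h3 | h3
    · exact h3
    · exfalso
      rcases hp b hb f hf with h4 | h4
      · rw [h3, h4, add_right_comm] at h2
        exact hz0 (left_eq_add.1 h2.symm)
      · rw [h3, h4, smul_add] at h2
        have h5 : z + a • z = 0 := by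
          have : e + z + (a • f + a • z) = e + a • f + (z + a • z) := by abel
          rw [this] at h2
          exact left_eq_add.1 h2.symm
        exact haz (eq_iff.2 (by rw [add_comm]; exact h5))
  -- the map `(e, f) ↦ e + a f`
  let ψ : E × E →+ Y :=
    { toFun := fun p => (p.1 : Y) + a • (p.2 : Y)
      map_zero' := by simp
      map_add' := fun p q => by
        simp only [Prod.fst_add, Prod.snd_add, AddSubgroup.coe_add, smul_add]
        abel }
  have hψ : ∀ p, ψ p = (p.1 : Y) + a • (p.2 : Y) := fun _ => rfl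
  have hrange : ψ.range = dbl a E := by
    ext y
    rw [AddMonoidHom.mem_range, mem_dbl]
    constructor
    · rintro ⟨p, rfl⟩
      exact ⟨p.1, p.1.2, p.2, p.2.2, rfl⟩
    · rintro ⟨e, he, f, hf, rfl⟩
      exact ⟨(⟨e, he⟩, ⟨f, hf⟩), rfl⟩
  set N : AddSubgroup (E × E) := (fx Y B).comap ψ with hN
  -- `|E × E| |C_{E'}(B)| = |N| |E'|`
  have c1 : Nat.card (E × E) * Nat.card ↥(dbl a E ⊓ fx Y B) = Nat.card N * Nat.card ↥(dbl a E) := by
    have h2 : N.index = (fx Y B).relIndex ψ.range := AddSubgroup.index_comap _ _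
    have h3 : Nat.card N * N.index = Nat.card (E × E) := AddSubgroup.card_mul_index _
    have h4 : (fx Y B).relIndex (dbl a E) * Nat.card ↥(fx Y B ⊓ dbl a E) = Nat.card ↥(dbl a E) := by
      rw [← AddSubgroup.inf_relIndex_right, AddSubgroup.relIndex,
        ← Nat.card_congr (AddSubgroup.addSubgroupOfEquivOfLe (inf_le_right : fx Y B ⊓ dbl a E ≤ dbl a E)).toEquiv,
        mul_comm]
      exact AddSubgroup.card_mul_index _
    rw [hrange] at h2
    rw [← h3, h2, ← h4, inf_comm (dbl a E)]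
    ring
  -- `|N| ≤ |E₁| |C_E(B)|`
  have c2 : Nat.card N ≤ Nat.card E1 * Nat.card ↥(E ⊓ fx Y B) := by
    let π : N →+ Y :=
      { toFun := fun p => (p.1.1 : Y)
        map_zero' := rfl
        map_add' := fun _ _ => rfl }
    have h2 : Nat.card π.range * Nat.card π.ker = Nat.card N := by
      rw [← AddSubgroup.card_mul_index π.ker, AddSubgroup.index_ker, mul_comm]
    rw [← h2]
    refine Nat.mul_le_mul ?_ ?_
    · refine Nat.card_le_card_of_injective (fun y : π.range => (⟨y, ?_⟩ : E1)) fun x y hxy =>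
        Subtype.ext (congrArg (fun z : E1 => (z : Y)) hxy)
      obtain ⟨p, hp⟩ := y.2
      rw [← hp]
      exact key _ p.1.1.2 _ p.1.2.2 fun b hb => (AddSubgroup.mem_comap.1 p.2) b hb
    · refine Nat.card_le_card_of_injective (fun y : π.ker => (⟨(y.1.1.2 : Y), y.1.1.2.2, ?_⟩ : ↥(E ⊓ fx Y B))) ?_
      · intro b hb
        have h3 : (y.1.1.1 : Y) = 0 := (AddMonoidHom.mem_ker).1 y.2
        have h4 := (AddSubgroup.mem_comap.1 y.1.2) b hb
        rw [hψ, h3, zero_add, ← h.ab b hb] at h4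
        have h5 := congrArg (fun y => a • y) h4
        simpa only [h.aa] using h5
      · rintro ⟨⟨⟨p1, p2⟩, hp⟩, hk⟩ ⟨⟨⟨q1, q2⟩, hq⟩, hl⟩ hpq
        have h3 : (p1 : Y) = 0 := (AddMonoidHom.mem_ker).1 hk
        have h4 : (q1 : Y) = 0 := (AddMonoidHom.mem_ker).1 hl
        have h5 : (p2 : Y) = q2 := congrArg (fun z : ↥(E ⊓ fx Y B) => (z : Y)) hpq
        have h6 : p1 = q1 := Subtype.ext (h3.trans h4.symm)
        have h7 : p2 = q2 := Subtype.ext h5
        subst h6 h7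
        rfl
  -- the pairing
  have c3 : Nat.card B₁ * Nat.card E1 ≤ Nat.card E * Nat.card ↥(cn B E) := by
    have hbz : ∀ b ∈ B₁, b • z = z := fun b hb => h.BV b (h1 hb) z hz
    have hval : ∀ b ∈ B₁, ∀ e ∈ E, ∀ b' ∈ B₁, ∀ e' ∈ E, ∀ w : Y, w = (b • e + e) + (b' • e' + e') →
        ((if w = 0 then 0 else 1 : ZMod 2) =
          (if b • e + e = 0 then 0 else 1) + (if b' • e' + e' = 0 then 0 else 1)) := by
      intro b hb e he b' hb' e' he' w hw
      have e1 : b • e + e = 0 ∨ b • e + e = z := by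
        rcases hp b hb e he with h3 | h3
        · left; rw [h3, two]
        · right; rw [h3, add_right_comm, two, zero_add]
      have e2 : b' • e' + e' = 0 ∨ b' • e' + e' = z := by
        rcases hp b' hb' e' he' with h3 | h3
        · left; rw [h3, two]
        · right; rw [h3, add_right_comm, two, zero_add]
      subst hw
      rcases e1 with e1 | e1 <;> rcases e2 with e2 | e2 <;> rw [e1, e2]
      · simp
      · simp [hz0]
      · simp [hz0]
      · rw [two]
        simp only [if_true, hz0, if_false]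
        decide
    have h5 := Cfsg.Agent.Omega.Lin.card_pair (A := Multiplicative E) (B := B₁) (F := ZMod 2)
      (fun e b => if (b : M) • (e.toAdd : Y) + (e.toAdd : Y) = 0 then 0 else 1) ?_ ?_ ?_
      (AddSubgroup.toSubgroup (E1.addSubgroupOf E)) ?_ ((cn B E).subgroupOf B₁) ?_
    · have e1 : Nat.card (Multiplicative E) = Nat.card E := rfl
      have e2 : Nat.card ↥(AddSubgroup.toSubgroup (E1.addSubgroupOf E)) = Nat.card E1 :=
        Nat.card_congr (AddSubgroup.addSubgroupOfEquivOfLe (inf_le_left : E1 ≤ E)).toEquiv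
      have e3 : Nat.card ((cn B E).subgroupOf B₁) = Nat.card ↥(cn B E) :=
        Nat.card_congr (Subgroup.subgroupOfEquivOfLe hc).toEquiv
      rwa [e1, e2, e3] at h5
    · intro e f b
      apply hval b b.2 _ e.toAdd.2 b b.2 _ f.toAdd.2
      rw [toAdd_mul, AddSubgroup.coe_add, smul_add]
      abel
    · intro e b b'
      apply hval b b.2 _ e.toAdd.2 b' b'.2 _ e.toAdd.2
      rw [Subgroup.coe_mul, mul_smul]
      have h6 : (b : M) • ((b' : M) • (e.toAdd : Y) + (e.toAdd : Y)) = (b' : M) • (e.toAdd : Y) + (e.toAdd : Y) := by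
        rcases hp b' b'.2 _ e.toAdd.2 with h3 | h3
        · rw [h3, two, smul_zero]
        · rw [h3, add_right_comm, two, zero_add, hbz b b.2]
      rw [smul_add] at h6
      have h7 : (b : M) • (b' : M) • (e.toAdd : Y) = (b' : M) • (e.toAdd : Y) + (e.toAdd : Y) + (b : M) • (e.toAdd : Y) := by
        rw [← h6, add_assoc, two, add_zero]
      rw [h7]
      have h8 := two (e.toAdd : Y)
      calc (b' : M) • (e.toAdd : Y) + (e.toAdd : Y) + (b : M) • (e.toAdd : Y) + (e.toAdd : Y)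
          = (b : M) • (e.toAdd : Y) + (e.toAdd : Y) + ((b' : M) • (e.toAdd : Y) + (e.toAdd : Y)) := by abel
        _ = _ := rfl
    · intro c e
      rcases zc c with rfl | rfl
      · refine ⟨1, fun b => ?_⟩
        rw [zero_mul, if_pos]
        change (b : M) • (0 : Y) + 0 = 0
        rw [smul_zero, add_zero]
      · exact ⟨e, fun b => (one_mul _).symm⟩
    · intro e he b
      have h6 : (e.toAdd : Y) ∈ E1 := AddSubgroup.mem_addSubgroupOf.1 he
      rw [if_pos]
      rw [h6.2 b b.2, two]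
    · intro b hb
      rw [Subgroup.mem_subgroupOf]
      refine ⟨h1 b.2, fun e he => ?_⟩
      have h6 := hb (Multiplicative.ofAdd ⟨e, he⟩)
      by_contra hne
      have h7 : ¬ ((b : M) • e + e = 0) := fun h8 => hne (eq_iff.2 h8)
      change (if (b : M) • e + e = 0 then 0 else 1 : ZMod 2) = 0 at h6
      rw [if_neg h7] at h6
      exact one_ne_zero h6
  have c4 := h.exd hV hB
  have c5 : Nat.card (E × E) = Nat.card E * Nat.card E := Nat.card_prod _ _
  rw [c5] at c1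
  have p1 : 0 < Nat.card ↥(dbl a E) := Nat.card_pos
  have p2 : 0 < Nat.card E := Nat.card_pos
  have p3 : 0 < Nat.card ↥(cn B E) := Nat.card_pos
  have p4 : 0 < Nat.card E1 := Nat.card_pos
  -- `|E|² |C_B(E)| ≤ |B| |N|`
  have c6 : Nat.card E * Nat.card E * Nat.card ↥(cn B E) ≤ Nat.card B * Nat.card N := by
    refine Nat.le_of_mul_le_mul_right ?_ p1
    calc Nat.card E * Nat.card E * Nat.card ↥(cn B E) * Nat.card ↥(dbl a E)
        = Nat.card E * Nat.card E * (Nat.card ↥(dbl a E) * Nat.card ↥(cn B E)) := by ring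
      _ ≤ Nat.card E * Nat.card E * (Nat.card B * Nat.card ↥(dbl a E ⊓ fx Y B)) := Nat.mul_le_mul_left _ c4
      _ = Nat.card B * (Nat.card E * Nat.card E * Nat.card ↥(dbl a E ⊓ fx Y B)) := by ring
      _ = Nat.card B * Nat.card N * Nat.card ↥(dbl a E) := by rw [c1]; ring
  refine Nat.le_of_mul_le_mul_right (c := Nat.card E * Nat.card ↥(cn B E)) ?_ (Nat.mul_pos p2 p3)
  calc Nat.card E * Nat.card B₁ * (Nat.card E * Nat.card ↥(cn B E))
      = Nat.card E * Nat.card E * Nat.card ↥(cn B E) * Nat.card B₁ := by ring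
    _ ≤ Nat.card B * Nat.card N * Nat.card B₁ := Nat.mul_le_mul_right _ c6
    _ ≤ Nat.card B * (Nat.card E1 * Nat.card ↥(E ⊓ fx Y B)) * Nat.card B₁ :=
        Nat.mul_le_mul_right _ (Nat.mul_le_mul_left _ c2)
    _ = Nat.card B * Nat.card ↥(E ⊓ fx Y B) * (Nat.card B₁ * Nat.card E1) := by ring
    _ ≤ Nat.card B * Nat.card ↥(E ⊓ fx Y B) * (Nat.card E * Nat.card ↥(cn B E)) := Nat.mul_le_mul_left _ c3

end Exa

end Cfsg.Agent.Omega.NO3S.SN2.CPlus
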