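import Cfsg.Agent.Omega.NO3S.SN2.CPlus.Cnt

/-!
# THEOREM (C+) (helper933, #22887), the frame

`Y` = the elementary abelian group `U_{z_k}`, `M` acts on `Y`; `u = u₁₂`, `v = u₁₃`, `z_i` the heavy vectors;
`R` over `T` (`T = Q⟨t⟩` over `(12)`), `C = C_T(W)`, `B = C_A(V)`, `a ∈ A - B` over `(13)`.
-/

set_option autoImplicit false
set_option linter.unusedSectionVars false

namespace Cfsg.Agent.Omega.NO3S.SN2.CPlus

universe u

variable {M Y : Type u} [Group M] [AddCommGroup Y] [Module (ZMod 2) Y] [DistribMulAction M Y]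

/-- `⟨V, s ^ B : s ∈ S⟩` -/
def Eg (V : AddSubgroup Y) (B : Subgroup M) (S : Set Y) : AddSubgroup Y :=
  AddSubgroup.closure ((V : Set Y) ∪ {y | ∃ b ∈ B, ∃ s ∈ S, y = b • s})

/-- `⟨u, z₁, z₂, z₃⟩` -/
def ZZ (u z₁ z₂ z₃ : Y) : AddSubgroup Y where
  carrier := {w | ∃ x y z s : ZMod 2, w = x • u + y • z₁ + z • z₂ + s • z₃}
  add_mem' := by
    rintro _ _ ⟨x, y, z, s, rfl⟩ ⟨x', y', z', s', rfl⟩
    refine ⟨x + x', y + y', z + z', s + s', ?_⟩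
    simp only [add_smul]
    abel
  zero_mem' := ⟨0, 0, 0, 0, by simp⟩
  neg_mem' := by
    rintro _ ⟨x, y, z, s, rfl⟩
    exact ⟨x, y, z, s, by rw [neg_eq]⟩

theorem mem_ZZ {u z₁ z₂ z₃ w : Y} : w ∈ ZZ u z₁ z₂ z₃ ↔ ∃ x y z s : ZMod 2, w = x • u + y • z₁ + z • z₂ + s • z₃ :=
  Iff.rfl

section Eg

variable {V : AddSubgroup Y} {B : Subgroup M} {S : Set Y}

theorem V_le_Eg : V ≤ Eg V B S := fun _ hv => AddSubgroup.subset_closure (Or.inl hv)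

theorem mem_Eg {b : M} {s : Y} (hb : b ∈ B) (hs : s ∈ S) : b • s ∈ Eg V B S :=
  AddSubgroup.subset_closure (Or.inr ⟨b, hb, s, hs, rfl⟩)

theorem self_Eg {s : Y} (hs : s ∈ S) : s ∈ Eg V B S := by
  have := mem_Eg (V := V) (one_mem B) hs
  rwa [one_smul] at this

theorem Eg_B (BV : ∀ b ∈ B, ∀ v ∈ V, b • v = v) : ∀ b ∈ B, ∀ e ∈ Eg V B S, b • e ∈ Eg V B S := by
  intro b hb e he
  induction he using AddSubgroup.closure_induction with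
  | mem e he =>
    rcases he with he | ⟨b', hb', s, hs, rfl⟩
    · rw [BV b hb e he]; exact V_le_Eg he
    · rw [← mul_smul]; exact mem_Eg (mul_mem hb hb') hs
  | zero => rw [smul_zero]; exact zero_mem _
  | add e f _ _ h1 h2 => rw [smul_add]; exact add_mem h1 h2
  | neg e _ h1 => rw [smul_neg]; exact neg_mem h1

theorem Eg_two (BV : ∀ b ∈ B, ∀ v ∈ V, b • v = v) (Bab : ∀ b ∈ B, ∀ b' ∈ B, b * b' = b' * b) {c : M} (hc : c ∈ B)
    {z : Y} (hz : z ∈ V) (hS : ∀ s ∈ S, c • s = s ∨ c • s = s + z) :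
    ∀ e ∈ Eg V B S, c • e = e ∨ c • e = e + z := by
  intro e he
  induction he using AddSubgroup.closure_induction with
  | mem e he =>
    rcases he with he | ⟨b', hb', s, hs, rfl⟩
    · left; exact BV c hc e he
    · rw [← mul_smul, Bab c hc b' hb', mul_smul]
      rcases hS s hs with h1 | h1
      · left; rw [h1]
      · right; rw [h1, smul_add, BV b' hb' z hz]
  | zero => left; rw [smul_zero]
  | add e f _ _ h1 h2 =>
    rw [smul_add]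
    rcases h1 with h1 | h1 <;> rcases h2 with h2 | h2 <;> rw [h1, h2]
    · left; rfl
    · right; abel
    · right; abel
    · left
      have : e + z + (f + z) = e + f + (z + z) := by abel
      rw [this, two, add_zero]
  | neg e _ h1 => rwa [neg_eq]

theorem cn_Eg (BV : ∀ b ∈ B, ∀ v ∈ V, b • v = v) (Bab : ∀ b ∈ B, ∀ b' ∈ B, b * b' = b' * b) {c : M} (hc : c ∈ B)
    (hS : ∀ s ∈ S, c • s = s) : c ∈ cn B (Eg V B S) := by
  refine ⟨hc, fun e he => ?_⟩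
  rcases Eg_two BV Bab hc (zero_mem V) (fun s hs => Or.inl (hS s hs)) e he with h | h
  · exact h
  · rw [h, add_zero]

end Eg

/-- The frame of THEOREM (C+). -/
structure Fr (V : AddSubgroup Y) (R L T Q C B : Subgroup M) (a t : M) (z₁ z₂ z₃ u v : Y)
    (f g f' g' : M → ZMod 2) : Prop where
  exa : Exa V B a
  z1 : z₁ ∈ V
  z2 : z₂ ∈ V
  z3 : z₃ ∈ V
  ind : ∀ x y z : ZMod 2, x • z₁ + y • z₂ + z • z₃ = 0 → x = 0 ∧ y = 0 ∧ z = 0
  uV : u ∉ V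
  TR : T ≤ R
  QT : Q ≤ T
  TL : T ≤ L
  BQ : B ≤ Q
  Bab : ∀ b ∈ B, ∀ b' ∈ B, b * b' = b' * b
  QV : ∀ q ∈ Q, ∀ w ∈ V, q • w = w
  Qn : ∀ s ∈ T, ∀ q ∈ Q, s⁻¹ * q * s ∈ Q
  qu : ∀ q ∈ Q, q • u = u + f q • z₁ + g q • z₂
  qv : ∀ q ∈ Q, q • v = v + f' q • z₁ + g' q • z₃
  onu : ∀ x y : ZMod 2, ∃ q ∈ Q, f q = x ∧ g q = y
  onv : ∀ x y : ZMod 2, ∃ q ∈ Q, f' q = x ∧ g' q = y
  a1 : a • z₁ = z₃
  a2 : a • z₂ = z₂
  aQ : ∀ q ∈ Q, a⁻¹ * q * a ∈ Q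
  Rz : ∀ r ∈ R, r • z₃ = z₃
  Rx : ∀ r ∈ R, r • (z₁ + z₂) = z₁ + z₂
  R1 : ∀ r ∈ R, ∃ x y z : ZMod 2, r • z₁ = x • u + y • z₁ + z • z₂
  Ru : ∀ r ∈ R, ∃ x y z : ZMod 2, r • u = x • u + y • z₁ + z • z₂
  LV : ∀ r ∈ R, r ∈ L ↔ r • z₁ ∈ V
  Cn : ∀ r ∈ R, ∀ c ∈ C, r * c * r⁻¹ ∈ C
  memC : ∀ q, q ∈ C ↔ q ∈ Q ∧ f q = 0 ∧ g q = 0
  k0 : ∀ q ∈ Q, f q = g q → ∀ r ∈ R, r * q * r⁻¹ ∈ T
  TQ : ∀ s ∈ T, ∀ s' ∈ T, s ∉ Q → s' ∉ Q → s⁻¹ * s' ∈ Q
  gen : ∀ X : Subgroup M, T ≤ X → X ≤ R → ¬ X ≤ L → X = R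
  tT : t ∈ T
  t1 : t • z₁ = z₂
  tu : ∃ x y : ZMod 2, t • u = u + x • z₁ + y • z₂

namespace Fr

variable {V : AddSubgroup Y} {R L T Q C B : Subgroup M} {a t : M} {z₁ z₂ z₃ u v : Y} {f g f' g' : M → ZMod 2}
  (h : Fr V R L T Q C B a t z₁ z₂ z₃ u v f g f' g')
include h

theorem ze : ∀ x y z : ZMod 2, x • z₁ + y • z₂ + z • z₃ ∈ V := by
  intro x y z
  rcases zc x with rfl | rfl <;> rcases zc y with rfl | rfl <;> rcases zc z with rfl | rfl <;>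
    simp only [zero_smul, one_smul, add_zero, zero_add] <;>
    first
      | exact zero_mem _
      | exact h.z1
      | exact h.z2
      | exact h.z3
      | exact add_mem h.z1 h.z2
      | exact add_mem h.z1 h.z3
      | exact add_mem h.z2 h.z3
      | exact add_mem (add_mem h.z1 h.z2) h.z3

theorem ind4 {x y z s : ZMod 2} (h0 : x • u + y • z₁ + z • z₂ + s • z₃ = 0) : x = 0 ∧ y = 0 ∧ z = 0 ∧ s = 0 := by
  rcases zc x with rfl | rfl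
  · rw [zero_smul, zero_add] at h0
    exact ⟨rfl, h.ind y z s h0⟩
  · exfalso
    apply h.uV
    have h1 : u + (y • z₁ + z • z₂ + s • z₃) = 0 := by rw [← h0, one_smul]; abel
    rw [← eq_iff] at h1
    rw [h1]
    exact h.ze y z s

theorem t2 : t • z₂ = z₁ := by
  have h1 := h.Rx t (h.TR h.tT)
  rw [smul_add, h.t1, add_comm z₁ z₂] at h1
  exact add_left_cancel h1

theorem a3 : a • z₃ = z₁ := by rw [← h.a1, h.exa.aa]

theorem z13 : z₁ ≠ z₃ := by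
  intro h1
  have := h.ind 1 0 1 (by rw [one_smul, zero_smul, one_smul, add_zero, h1, two])
  exact one_ne_zero this.1

theorem z12 : z₁ ≠ z₂ := by
  intro h1
  have := h.ind 1 1 0 (by rw [one_smul, zero_smul, one_smul, add_zero, h1, two])
  exact one_ne_zero this.1

theorem B_V {b : M} (hb : b ∈ B) {w : Y} (hw : w ∈ V) : b • w = w := h.QV b (h.BQ hb) w hw

theorem C_le_Q : C ≤ Q := fun c hc => ((h.memC c).1 hc).1

/-- `f`, `g` are homomorphisms on `Q` -/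
theorem fg_mul {q q' : M} (hq : q ∈ Q) (hq' : q' ∈ Q) : f (q * q') = f q + f q' ∧ g (q * q') = g q + g q' := by
  have h1 := h.qu (q * q') (mul_mem hq hq')
  rw [mul_smul, h.qu q' hq', smul_add, smul_add, gs, gs, h.QV q hq _ h.z1, h.QV q hq _ h.z2, h.qu q hq] at h1
  have h2 : (f (q * q') + (f q + f q')) • z₁ + (g (q * q') + (g q + g q')) • z₂ + (0 : ZMod 2) • z₃ = 0 := by
    rw [zero_smul, add_zero]
    have h3 : u + f q • z₁ + g q • z₂ + f q' • z₁ + g q' • z₂ + (u + f (q * q') • z₁ + g (q * q') • z₂) = 0 := by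
      rw [← eq_iff]; exact h1
    rw [← h3]
    simp only [add_smul]
    have h4 := two u
    calc f (q * q') • z₁ + (f q • z₁ + f q' • z₁) + (g (q * q') • z₂ + (g q • z₂ + g q' • z₂))
        = (u + u) + (f (q * q') • z₁ + (f q • z₁ + f q' • z₁) + (g (q * q') • z₂ + (g q • z₂ + g q' • z₂))) := by
          rw [h4, zero_add]
      _ = _ := by abel
  obtain ⟨h3, h4, -⟩ := h.ind _ _ _ h2
  have e : ∀ x y : ZMod 2, x + y = 0 → x = y := by decide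
  exact ⟨e _ _ h3, e _ _ h4⟩

theorem fg_mul' {q q' : M} (hq : q ∈ Q) (hq' : q' ∈ Q) : f' (q * q') = f' q + f' q' ∧ g' (q * q') = g' q + g' q' := by
  have h1 := h.qv (q * q') (mul_mem hq hq')
  rw [mul_smul, h.qv q' hq', smul_add, smul_add, gs, gs, h.QV q hq _ h.z1, h.QV q hq _ h.z3, h.qv q hq] at h1
  have h2 : (f' (q * q') + (f' q + f' q')) • z₁ + (0 : ZMod 2) • z₂ + (g' (q * q') + (g' q + g' q')) • z₃ = 0 := by
    rw [zero_smul, add_zero]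
    have h3 : v + f' q • z₁ + g' q • z₃ + f' q' • z₁ + g' q' • z₃ + (v + f' (q * q') • z₁ + g' (q * q') • z₃) = 0 := by
      rw [← eq_iff]; exact h1
    rw [← h3]
    simp only [add_smul]
    have h4 := two v
    calc f' (q * q') • z₁ + (f' q • z₁ + f' q' • z₁) + (g' (q * q') • z₃ + (g' q • z₃ + g' q' • z₃))
        = (v + v) + (f' (q * q') • z₁ + (f' q • z₁ + f' q' • z₁) + (g' (q * q') • z₃ + (g' q • z₃ + g' q' • z₃))) := by
          rw [h4, zero_add]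
      _ = _ := by abel
  obtain ⟨h3, -, h4⟩ := h.ind _ _ _ h2
  have e : ∀ x y : ZMod 2, x + y = 0 → x = y := by decide
  exact ⟨e _ _ h3, e _ _ h4⟩

theorem fg_one : f 1 = 0 ∧ g 1 = 0 := by
  have h1 := h.fg_mul (one_mem Q) (one_mem Q)
  rw [mul_one] at h1
  have e : ∀ x : ZMod 2, x = x + x → x = 0 := by decide
  exact ⟨e _ h1.1, e _ h1.2⟩

theorem fg_one' : f' 1 = 0 ∧ g' 1 = 0 := by
  have h1 := h.fg_mul' (one_mem Q) (one_mem Q)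
  rw [mul_one] at h1
  have e : ∀ x : ZMod 2, x = x + x → x = 0 := by decide
  exact ⟨e _ h1.1, e _ h1.2⟩

theorem fg_inv {q : M} (hq : q ∈ Q) : f q⁻¹ = f q ∧ g q⁻¹ = g q := by
  have h1 := h.fg_mul (inv_mem hq) hq
  rw [inv_mul_cancel, h.fg_one.1, h.fg_one.2] at h1
  have e : ∀ x y : ZMod 2, 0 = x + y → x = y := by decide
  exact ⟨e _ _ h1.1, e _ _ h1.2⟩

theorem fg_inv' {q : M} (hq : q ∈ Q) : f' q⁻¹ = f' q ∧ g' q⁻¹ = g' q := by
  have h1 := h.fg_mul' (inv_mem hq) hq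
  rw [inv_mul_cancel, h.fg_one'.1, h.fg_one'.2] at h1
  have e : ∀ x y : ZMod 2, 0 = x + y → x = y := by decide
  exact ⟨e _ _ h1.1, e _ _ h1.2⟩

/-- invariance of `f'` under `Q` -/
theorem f'_conj {q c : M} (hq : q ∈ Q) (hc : c ∈ Q) : f' (q⁻¹ * c * q) = f' c := by
  rw [(h.fg_mul' (mul_mem (inv_mem hq) hc) hq).1, (h.fg_mul' (inv_mem hq) hc).1, (h.fg_inv' hq).1]
  have e : ∀ x y : ZMod 2, x + y + x = y := by decide
  exact e _ _

theorem mem_C_of {q q' : M} (hq : q ∈ Q) (hq' : q' ∈ Q) (h1 : f q = f q') (h2 : g q = g q') : q⁻¹ * q' ∈ C := by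
  rw [h.memC]
  refine ⟨mul_mem (inv_mem hq) hq', ?_, ?_⟩
  · rw [(h.fg_mul (inv_mem hq) hq').1, (h.fg_inv hq).1, h1]
    exact CharTwo.add_self_eq_zero _
  · rw [(h.fg_mul (inv_mem hq) hq').2, (h.fg_inv hq).2, h2]
    exact CharTwo.add_self_eq_zero _

theorem Cn' {r : M} (hr : r ∈ R) {c : M} (hc : c ∈ C) : r⁻¹ * c * r ∈ C := by
  have := h.Cn r⁻¹ (inv_mem hr) c hc
  rwa [inv_inv] at this

theorem C_u {c : M} (hc : c ∈ C) : c • u = u := by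
  obtain ⟨h1, h2, h3⟩ := (h.memC c).1 hc
  rw [h.qu c h1, h2, h3, zero_smul, zero_smul, add_zero, add_zero]

theorem C_ZZ {c : M} (hc : c ∈ C) {w : Y} (hw : w ∈ ZZ u z₁ z₂ z₃) : c • w = w := by
  obtain ⟨x, y, z, s, rfl⟩ := hw
  have hcQ := h.C_le_Q hc
  rw [smul_add, smul_add, smul_add, gs, gs, gs, gs, h.C_u hc, h.QV c hcQ _ h.z1, h.QV c hcQ _ h.z2,
    h.QV c hcQ _ h.z3]

omit h in
theorem u_ZZ : u ∈ ZZ u z₁ z₂ z₃ := ⟨1, 0, 0, 0, by simp⟩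
omit h in
theorem z1_ZZ : z₁ ∈ ZZ u z₁ z₂ z₃ := ⟨0, 1, 0, 0, by simp⟩
omit h in
theorem z2_ZZ : z₂ ∈ ZZ u z₁ z₂ z₃ := ⟨0, 0, 1, 0, by simp⟩
omit h in
theorem z3_ZZ : z₃ ∈ ZZ u z₁ z₂ z₃ := ⟨0, 0, 0, 1, by simp⟩
omit h in
theorem sm_ZZ {w : Y} (x : ZMod 2) (hw : w ∈ ZZ u z₁ z₂ z₃) : x • w ∈ ZZ u z₁ z₂ z₃ := by
  rcases zc x with rfl | rfl
  · rw [zero_smul]; exact zero_mem _
  · rw [one_smul]; exact hw

theorem R_z1 {r : M} (hr : r ∈ R) : r • z₁ ∈ ZZ u z₁ z₂ z₃ := by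
  obtain ⟨x, y, z, h1⟩ := h.R1 r hr
  exact ⟨x, y, z, 0, by rw [h1, zero_smul, add_zero]⟩

theorem R_z2 {r : M} (hr : r ∈ R) : r • z₂ ∈ ZZ u z₁ z₂ z₃ := by
  have h1 : r • z₂ = r • (z₁ + z₂) + r • z₁ := by
    rw [smul_add, add_comm (r • z₁), add_assoc, two, add_zero]
  rw [h1, h.Rx r hr]
  exact add_mem (add_mem z1_ZZ z2_ZZ) (h.R_z1 hr)

theorem R_ZZ {r : M} (hr : r ∈ R) {w : Y} (hw : w ∈ ZZ u z₁ z₂ z₃) : r • w ∈ ZZ u z₁ z₂ z₃ := by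
  obtain ⟨x, y, z, s, rfl⟩ := hw
  rw [smul_add, smul_add, smul_add, gs, gs, gs, gs, h.Rz r hr]
  refine add_mem (add_mem (add_mem (sm_ZZ x ?_) (sm_ZZ y (h.R_z1 hr))) (sm_ZZ z (h.R_z2 hr))) (sm_ZZ s z3_ZZ)
  obtain ⟨x, y, z, h1⟩ := h.Ru r hr
  exact ⟨x, y, z, 0, by rw [h1, zero_smul, add_zero]⟩

theorem R_out {r : M} (hr : r ∈ R) (hL : r ∉ L) : ∃ y z : ZMod 2, r • z₁ = u + y • z₁ + z • z₂ := by
  obtain ⟨x, y, z, h1⟩ := h.R1 r hr
  rcases zc x with rfl | rfl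
  · exfalso
    apply hL
    rw [h.LV r hr, h1, zero_smul, zero_add]
    have := h.ze y z 0
    rwa [zero_smul, add_zero] at this
  · exact ⟨y, z, by rw [h1, one_smul]⟩

/-- `[u₁₃ ^ r, c]` -/
theorem c_rv {r c : M} (hr : r ∈ R) (hc : c ∈ C) :
    c • (r • v) = r • v + f' (r⁻¹ * c * r) • (r • z₁) + g' (r⁻¹ * c * r) • z₃ := by
  have h1 : c • (r • v) = r • ((r⁻¹ * c * r) • v) := by
    rw [← mul_smul, ← mul_smul]; congr 1; group
  rw [h1, h.qv _ (h.C_le_Q (h.Cn' hr hc)), smul_add, smul_add, gs, gs, h.Rz r hr]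

/-- `[u₂₃, q]` -/
theorem q_tv {q : M} (hq : q ∈ Q) :
    q • (t • v) = t • v + f' (t⁻¹ * q * t) • z₂ + g' (t⁻¹ * q * t) • z₃ := by
  have h1 : q • (t • v) = t • ((t⁻¹ * q * t) • v) := by
    rw [← mul_smul, ← mul_smul]; congr 1; group
  rw [h1, h.qv _ (h.Qn t h.tT q hq), smul_add, smul_add, gs, gs, h.Rz t (h.TR h.tT), h.t1]

theorem q_y {q : M} (hq : q ∈ Q) {r : M} (hr : r ∈ R) (hL : r ∉ L) :
    q • (r • z₁) = r • z₁ + f q • z₁ + g q • z₂ := by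
  obtain ⟨y, z, h1⟩ := h.R_out hr hL
  rw [h1, smul_add, smul_add, gs, gs, h.QV q hq _ h.z1, h.QV q hq _ h.z2, h.qu q hq]
  abel

theorem y_V {r : M} (hr : r ∈ R) (hL : r ∉ L) : r • z₁ ∉ V := fun h1 => hL ((h.LV r hr).2 h1)

theorem y_uV {r : M} (hr : r ∈ R) (hL : r ∉ L) : r • z₁ + u ∈ V := by
  obtain ⟨y, z, h1⟩ := h.R_out hr hL
  rw [h1]
  have h2 := h.ze y z 0
  rw [zero_smul, add_zero] at h2
  have h3 : u + y • z₁ + z • z₂ + u = (u + u) + (y • z₁ + z • z₂) := by abel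
  rw [h3, two, zero_add]
  exact h2

/-- a group between `Q`, `Q ^ r` and `R` is `R` -/
theorem gen' {X : Subgroup M} (hX : X ≤ R) (hQ : Q ≤ X) {r : M} (hr : r ∈ R) (hL : r ∉ L)
    (hrQ : ∀ q ∈ Q, r * q * r⁻¹ ∈ X) : X = R := by
  have hri : r⁻¹ ∈ R := inv_mem hr
  have hLi : r⁻¹ ∉ L := fun h1 => hL (by have := inv_mem h1; rwa [inv_inv] at this)
  have key : ∀ q ∈ Q, (r * q * r⁻¹) • z₁ = z₁ + f q • (r • z₁) + g q • (r • z₂) := by
    intro q hq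
    rw [mul_smul, mul_smul, h.q_y hq hri hLi, smul_add, smul_add, gs, gs, smul_inv_smul]
  apply h.gen X ?_ hX ?_
  · obtain ⟨q, hq, h1, h2⟩ := h.onu 1 1
    have hk := hrQ q hq
    have hkT := h.k0 q hq (h1.trans h2.symm) r hr
    have hkQ : r * q * r⁻¹ ∉ Q := by
      intro h3
      have h4 := h.QV _ h3 _ h.z1
      rw [key q hq, h1, h2, one_smul, one_smul, add_assoc, ← smul_add, h.Rx r hr] at h4
      have h5 : z₁ + z₂ = 0 := left_eq_add.1 h4.symm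
      exact h.z12 (eq_iff.2 h5)
    intro s hs
    by_cases hsQ : s ∈ Q
    · exact hQ hsQ
    · have h5 := h.TQ _ hkT s hs hkQ hsQ
      have h6 : s = (r * q * r⁻¹) * ((r * q * r⁻¹)⁻¹ * s) := by group
      rw [h6]
      exact mul_mem hk (hQ h5)
  · intro hXL
    obtain ⟨q, hq, h1, h2⟩ := h.onu 1 0
    have h3 := (h.LV _ (hX (hrQ q hq))).1 (hXL (hrQ q hq))
    rw [key q hq, h1, h2, one_smul, zero_smul, add_zero] at h3
    apply h.y_V hr hL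
    have h4 := sub_mem h3 h.z1
    rwa [add_sub_cancel_left] at h4

end Fr

end Cfsg.Agent.Omega.NO3S.SN2.CPlus
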