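import Cfsg.Agent.Omega.NO3S.SN2.CPlus.Frame

/-!
# THEOREM (C+) (helper933, #22887), (0) - (5)

* `a_u`, `B_tv` **(0)**; `zero` : the two cases `ε = 1`, `ε = 2`;
* `al0` **(1)**; `fix_eta` **(3), (4)**; `fix13` **(5)** : `R` fixes `u₁₃ Z''`;
* `dep`, `cc` : `u₁₂ u₁₃ u₂₃ ∈ ⟨z₁, z₂, z₃⟩` and (C).
-/

set_option autoImplicit false
set_option linter.unusedSectionVars false

namespace Cfsg.Agent.Omega.NO3S.SN2.CPlus.Fr

universe u

variable {M Y : Type u} [Group M] [AddCommGroup Y] [Module (ZMod 2) Y] [DistribMulAction M Y]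
variable {V : AddSubgroup Y} {R L T Q C B : Subgroup M} {a t : M} {z₁ z₂ z₃ u v : Y} {f g f' g' : M → ZMod 2}
  (h : Fr V R L T Q C B a t z₁ z₂ z₃ u v f g f' g')
include h

/-- `[u₁₂ ^ a, q]` -/
theorem q_au {q : M} (hq : q ∈ Q) : q • (a • u) = a • u + f (a⁻¹ * q * a) • z₃ + g (a⁻¹ * q * a) • z₂ := by
  have h1 : q • (a • u) = a • ((a⁻¹ * q * a) • u) := by
    rw [← mul_smul, ← mul_smul]; congr 1; group
  rw [h1, h.qu _ (h.aQ q hq), smul_add, smul_add, gs, gs, h.a1, h.a2]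

/-- `[u₂₃ ^ a, q]` -/
theorem q_atv {q : M} (hq : q ∈ Q) : q • (a • (t • v)) = a • (t • v) + f' (t⁻¹ * (a⁻¹ * q * a) * t) • z₂ +
    g' (t⁻¹ * (a⁻¹ * q * a) * t) • z₁ := by
  have h1 : q • (a • (t • v)) = a • ((a⁻¹ * q * a) • (t • v)) := by
    generalize t • v = w
    rw [← mul_smul, ← mul_smul]; congr 1; group
  rw [h1, h.q_tv (h.aQ q hq), smul_add, smul_add, gs, gs, h.a2, h.a3]

/-- `W ^ a ≠ W` -/
theorem a_u : a • u + u ∉ V := by
  intro h1
  obtain ⟨q, hq, hf, hg⟩ := h.onu 1 0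
  have h2 := h.QV q hq _ h1
  rw [smul_add, h.q_au hq, h.qu q hq, hf, hg, one_smul, zero_smul, add_zero] at h2
  have h3 : (1 : ZMod 2) • z₁ + g (a⁻¹ * q * a) • z₂ + f (a⁻¹ * q * a) • z₃ = 0 := by
    rw [one_smul]
    have : a • u + f (a⁻¹ * q * a) • z₃ + g (a⁻¹ * q * a) • z₂ + (u + z₁) =
        (a • u + u) + (z₁ + g (a⁻¹ * q * a) • z₂ + f (a⁻¹ * q * a) • z₃) := by abel
    rw [this] at h2
    exact left_eq_add.1 h2.symm
  exact one_ne_zero (h.ind _ _ _ h3).1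

theorem au_V : a • u ∉ V := by
  intro h1
  have := h.exa.aV _ h1
  rw [h.exa.aa] at this
  exact h.uV this

theorem a_tv : a • (t • v) + t • v ∉ V := by
  intro h1
  -- choose `q` with `g'(t⁻¹ q t) = 1`
  obtain ⟨q', hq', hf, hg⟩ := h.onv 0 1
  -- `q = t q' t⁻¹`
  have hq : t * q' * t⁻¹ ∈ Q := by
    have h2 : (t * t) ∈ Q ∨ True := Or.inr trivial
    have := h.Qn t⁻¹
    have h3 : t⁻¹ ∈ T := inv_mem h.tT
    have h4 := this h3 q' hq'
    rwa [inv_inv] at h4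
  have h2 := h.QV _ hq _ h1
  have e1 : t⁻¹ * (t * q' * t⁻¹) * t = q' := by group
  rw [smul_add, h.q_atv hq, h.q_tv hq, e1, hf, hg, one_smul, zero_smul, add_zero] at h2
  set α := f' (t⁻¹ * (a⁻¹ * (t * q' * t⁻¹) * a) * t)
  set β := g' (t⁻¹ * (a⁻¹ * (t * q' * t⁻¹) * a) * t)
  have h3 : β • z₁ + α • z₂ + (1 : ZMod 2) • z₃ = 0 := by
    rw [one_smul]
    have : a • (t • v) + α • z₂ + β • z₁ + (t • v + z₃) =
        (a • (t • v) + t • v) + (β • z₁ + α • z₂ + z₃) := by abel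
    rw [this] at h2
    exact left_eq_add.1 h2.symm
  exact one_ne_zero (h.ind _ _ _ h3).2.2

theorem B_tv : ∃ b ∈ B, b • (t • v) ≠ t • v := by
  by_contra hcon
  push Not at hcon
  exact h.a_tv (h.exa.fix _ hcon)

theorem qu' {b : M} (hb : b ∈ B) : b • u = u + f b • z₁ + g b • z₂ := h.qu b (h.BQ hb)

omit h in
theorem zmod_ne {x y : ZMod 2} (h : x ≠ y) : x = y + 1 := by
  revert h x y; decide

/-- (0): the two cases -/
theorem zero : ((∀ b ∈ B, f b = 0) ∧ ∃ b ∈ B, g b = 1) ∨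
    ∃ b₁ ∈ B, ∃ b₂ ∈ B, f b₁ = 1 ∧ g b₁ = 0 ∧ f b₂ = 0 ∧ g b₂ = 1 := by
  classical
  by_cases hf : ∀ b ∈ B, f b = 0
  · left
    refine ⟨hf, ?_⟩
    by_contra hg
    apply h.a_u
    apply h.exa.fix
    intro b hb
    rcases zc (g b) with h1 | h1
    · rw [h.qu' hb, hf b hb, h1, zero_smul, zero_smul, add_zero, add_zero]
    · exact absurd ⟨b, hb, h1⟩ hg
  · right
    push Not at hf
    obtain ⟨b₀, hb₀, h0⟩ := hf
    have h0 : f b₀ = 1 := (zc (f b₀)).resolve_left h0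
    by_cases hr : ∀ b ∈ B, g b = g b₀ * f b
    · exfalso
      have := h.exa.finM
      have BV := h.exa.BV
      set E := Eg V B ({u} : Set Y) with hE
      have hcard : Nat.card B ≤ Nat.card (ZMod 2) * Nat.card ↥(cn B E) := by
        refine card_sep f fun b hb b' hb' hbb => ?_
        have hB : b⁻¹ * b' ∈ B := mul_mem (inv_mem hb) hb'
        apply cn_Eg BV h.Bab hB
        rintro s hs
        rw [Set.mem_singleton_iff] at hs
        rw [hs]
        exact h.C_u (h.mem_C_of (h.BQ hb) (h.BQ hb') hbb (by rw [hr b hb, hr b' hb', hbb]))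
      have h2 := h.exa.le (E := E) (n := 2) V_le_Eg (Eg_B BV) ![u, a • u] (by
        intro i
        fin_cases i
        · exact le_dbl (self_Eg (Set.mem_singleton _))
        · exact mem_dbl_a (self_Eg (Set.mem_singleton _))) (by
        intro c hc
        have h3 := hc b₀ hb₀
        rw [Fin.sum_univ_two] at h3
        simp only [Matrix.cons_val_zero, Matrix.cons_val_one] at h3
        have hau : b₀ • (a • u) = a • u + f b₀ • z₃ + g b₀ • z₂ := by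
          rw [← h.exa.ab b₀ hb₀, h.qu' hb₀, smul_add, smul_add, gs, gs, h.a1, h.a2]
        rw [smul_add, gs, gs, h.qu' hb₀, hau, h0, one_smul, one_smul] at h3
        have h4 : (c 0) • z₁ + ((c 0 + c 1) * g b₀) • z₂ + (c 1) • z₃ = 0 := by
          have e1 : c 0 • (u + z₁ + g b₀ • z₂) + c 1 • (a • u + z₃ + g b₀ • z₂) =
              (c 0 • u + c 1 • (a • u)) + (c 0 • z₁ + ((c 0 + c 1) * g b₀) • z₂ + c 1 • z₃) := by
            simp only [smul_add, add_mul, add_smul, mul_smul]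
            abel
          rw [e1] at h3
          exact left_eq_add.1 h3.symm
        obtain ⟨h5, -, h6⟩ := h.ind _ _ _ h4
        funext i
        fin_cases i
        · exact h5
        · exact h6)
      rw [Nat.card_zmod] at hcard
      have h4 : 0 < Nat.card ↥(cn B E) := Nat.card_pos
      omega
    · push Not at hr
      obtain ⟨b, hb, hne⟩ := hr
      -- `b₂`
      obtain ⟨b₂, hb₂, e1, e2⟩ : ∃ b₂ ∈ B, f b₂ = 0 ∧ g b₂ = 1 := by
        rcases zc (f b) with h1 | h1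
        · refine ⟨b, hb, h1, ?_⟩
          rw [h1, mul_zero] at hne
          exact (zc (g b)).resolve_left hne
        · rw [h1, mul_one] at hne
          refine ⟨b₀ * b, mul_mem hb₀ hb, ?_, ?_⟩
          · rw [(h.fg_mul (h.BQ hb₀) (h.BQ hb)).1, h0, h1]; decide
          · rw [(h.fg_mul (h.BQ hb₀) (h.BQ hb)).2, zmod_ne hne, ← add_assoc, CharTwo.add_self_eq_zero, zero_add]
      rcases zc (g b₀) with h1 | h1
      · exact ⟨b₀, hb₀, b₂, hb₂, h0, h1, e1, e2⟩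
      · refine ⟨b₀ * b₂, mul_mem hb₀ hb₂, b₂, hb₂, ?_, ?_, e1, e2⟩
        · rw [(h.fg_mul (h.BQ hb₀) (h.BQ hb₂)).1, h0, e1, add_zero]
        · rw [(h.fg_mul (h.BQ hb₀) (h.BQ hb₂)).2, h1, e2]; decide

/-- `[u₁₃ ^ r, c]`, `c ∈ B ∩ C` -/
theorem c_bη {r : M} (hr : r ∈ R) (hL : r ∉ L) {c b : M} (hc : c ∈ B) (hcC : c ∈ C) (hb : b ∈ B) :
    c • (b • (r • v)) = b • (r • v) + f' (r⁻¹ * c * r) • (r • z₁ + f b • z₁ + g b • z₂) + g' (r⁻¹ * c * r) • z₃ := by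
  have h1 : c • (b • (r • v)) = b • (c • (r • v)) := by rw [← mul_smul, h.Bab c hc b hb, mul_smul]
  rw [h1, h.c_rv hr hcC, smul_add, smul_add, gs, gs, h.q_y (h.BQ hb) hr hL, h.B_V hb h.z3]

theorem card_BC1 (hf : ∀ b ∈ B, f b = 0) : Nat.card B ≤ 2 * Nat.card ↥(B ⊓ C) := by
  have := h.exa.finM
  have h1 := card_sep (X := B ⊓ C) (B := B) g fun b hb b' hb' hbb => by
    have hB : b⁻¹ * b' ∈ B := mul_mem (inv_mem hb) hb'
    exact ⟨hB, h.mem_C_of (h.BQ hb) (h.BQ hb') (by rw [hf b hb, hf b' hb']) hbb⟩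
  rwa [Nat.card_zmod] at h1

theorem card_BC2 : Nat.card B ≤ 4 * Nat.card ↥(B ⊓ C) := by
  have := h.exa.finM
  have h1 := card_sep (X := B ⊓ C) (B := B) (fun b => (f b, g b)) fun b hb b' hb' hbb => by
    have hB : b⁻¹ * b' ∈ B := mul_mem (inv_mem hb) hb'
    exact ⟨hB, h.mem_C_of (h.BQ hb) (h.BQ hb') (congrArg Prod.fst hbb) (congrArg Prod.snd hbb)⟩
  rwa [Nat.card_prod, Nat.card_zmod] at h1

/-- `|B ∩ C : C_B(E)| ≤ 4` -/
theorem card_cn {r : M} (hr : r ∈ R) : Nat.card ↥(B ⊓ C) ≤ 4 * Nat.card ↥(cn B (Eg V B {u, r • v})) := by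
  have := h.exa.finM
  have h1 := card_sep (X := cn B (Eg V B {u, r • v})) (B := B ⊓ C)
    (fun b => (f' (r⁻¹ * b * r), g' (r⁻¹ * b * r))) fun b hb b' hb' hbb => by
      have hB : b⁻¹ * b' ∈ B := mul_mem (inv_mem hb.1) hb'.1
      have hC : b⁻¹ * b' ∈ C := mul_mem (inv_mem hb.2) hb'.2
      apply cn_Eg h.exa.BV h.Bab hB
      rintro s (hs | hs)
      · rw [hs]; exact h.C_u hC
      · rw [Set.mem_singleton_iff] at hs
        rw [hs, h.c_rv hr hC]
        have c1 := h.C_le_Q (h.Cn' hr hb.2)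
        have c2 := h.C_le_Q (h.Cn' hr hb'.2)
        have e : r⁻¹ * (b⁻¹ * b') * r = (r⁻¹ * b * r)⁻¹ * (r⁻¹ * b' * r) := by group
        have e1 := congrArg Prod.fst hbb
        have e2 := congrArg Prod.snd hbb
        simp only at e1 e2
        rw [e, (h.fg_mul' (inv_mem c1) c2).1, (h.fg_mul' (inv_mem c1) c2).2, (h.fg_inv' c1).1, (h.fg_inv' c1).2,
          e1, e2, CharTwo.add_self_eq_zero, CharTwo.add_self_eq_zero, zero_smul, zero_smul, add_zero, add_zero]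
  rwa [Nat.card_prod, Nat.card_zmod] at h1

/-- mod `V` -/
theorem modV {x y : ZMod 2} (h1 : x • u + y • (a • u) ∈ V) : x = 0 ∧ y = 0 := by
  rcases zc x with rfl | rfl <;> rcases zc y with rfl | rfl
  · exact ⟨rfl, rfl⟩
  · rw [zero_smul, zero_add, one_smul] at h1; exact absurd h1 h.au_V
  · rw [zero_smul, add_zero, one_smul] at h1; exact absurd h1 h.uV
  · rw [one_smul, one_smul, add_comm] at h1; exact absurd h1 h.a_u

omit h in
theorem dsum {n : ℕ} (k : Fin n → ZMod 2) (w : Fin n → Y) (c : M) (h0 : c • ∑ i, k i • w i = ∑ i, k i • w i) :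
    ∑ i, k i • (c • w i + w i) = 0 := by
  simp only [smul_add, Finset.sum_add_distrib]
  rw [eq_iff, Finset.smul_sum] at h0
  simp only [gs] at h0
  exact h0

theorem D_au {b : M} (hb : b ∈ B) : b • (a • u) + a • u = f b • z₃ + g b • z₂ := by
  rw [← h.exa.ab b hb, h.qu' hb, smul_add, smul_add, gs, gs, h.a1, h.a2]
  have e : a • u + f b • z₃ + g b • z₂ + a • u = (a • u + a • u) + (f b • z₃ + g b • z₂) := by abel
  rw [e, two, zero_add]

theorem D_u {b : M} (hb : b ∈ B) : b • u + u = f b • z₁ + g b • z₂ := by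
  rw [h.qu' hb]
  have e : u + f b • z₁ + g b • z₂ + u = (u + u) + (f b • z₁ + g b • z₂) := by abel
  rw [e, two, zero_add]

theorem sm_au {k : ZMod 2} {b : M} (hb : b ∈ B) (hg : g b = 1) (h0 : k • (b • (a • u) + a • u) = 0) : k = 0 := by
  rcases zc k with h1 | h1
  · exact h1
  · exfalso
    rw [h1, one_smul, h.D_au hb, hg] at h0
    have h2 : (0 : ZMod 2) • z₁ + (1 : ZMod 2) • z₂ + f b • z₃ = 0 := by
      rw [zero_smul, zero_add, add_comm]; exact h0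
    exact one_ne_zero (h.ind _ _ _ h2).2.1

theorem sm_u {k : ZMod 2} {b : M} (hb : b ∈ B) (hg : g b = 1) (h0 : k • (b • u + u) = 0) : k = 0 := by
  rcases zc k with h1 | h1
  · exact h1
  · exfalso
    rw [h1, one_smul, h.D_u hb, hg] at h0
    have h2 : f b • z₁ + (1 : ZMod 2) • z₂ + (0 : ZMod 2) • z₃ = 0 := by
      rw [zero_smul, add_zero]; exact h0
    exact one_ne_zero (h.ind _ _ _ h2).2.1

/-- (1) -/
theorem al0 {r : M} (hr : r ∈ R) (hL : r ∉ L) {c : M} (hc : c ∈ B) (hcC : c ∈ C) : f' (r⁻¹ * c * r) = 0 := by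
  by_contra hal
  have hal : f' (r⁻¹ * c * r) = 1 := (zc _).resolve_left hal
  have := h.exa.finM
  have BV := h.exa.BV
  set η := r • v with hη
  set y := r • z₁ with hy
  set be := g' (r⁻¹ * c * r) with hbe
  set E := Eg V B ({u, η} : Set Y) with hE
  have uE : u ∈ E := self_Eg (Or.inl rfl)
  have ηE : η ∈ E := self_Eg (Or.inr rfl)
  have bηE : ∀ b ∈ B, b • η ∈ E := fun b hb => mem_Eg hb (Or.inr rfl)
  have h4 : 0 < Nat.card ↥(cn B E) := Nat.card_pos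
  have hcc := h.card_cn hr
  rw [← hη, ← hE] at hcc
  have hD : ∀ w w' : Y, c • w = w + w' → c • w + w = w' := fun w w' hw => by
    rw [hw, add_right_comm, two, zero_add]
  have hcη : c • η + η = y + be • z₃ := by
    have := h.c_rv hr hcC
    rw [hal, one_smul, add_assoc] at this
    exact hD _ _ this
  have hcb : ∀ b ∈ B, c • (b • η) + b • η = (y + f b • z₁ + g b • z₂) + be • z₃ := by
    intro b hb
    have := h.c_bη hr hL hc hcC hb
    rw [hal, one_smul, add_assoc] at this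
    exact hD _ _ this
  obtain ⟨yv, hyv, hyy⟩ : ∃ yv ∈ V, y = u + yv := ⟨y + u, h.y_uV hr hL, by
    rw [add_comm y u, ← add_assoc, two, zero_add]⟩
  have hcu : c • (a • u) + a • u = 0 := by
    rw [h.D_au hc, ((h.memC c).1 hcC).2.1, ((h.memC c).1 hcC).2.2, zero_smul, zero_smul, add_zero]
  have hca : ∀ w w' : Y, c • w + w = w' → c • (a • w) + a • w = a • w' := fun w w' hw => by
    rw [← hw, smul_add, h.exa.ab c hc]
  have av := h.exa.aV yv hyv
  have zV : ∀ x : ZMod 2, ∀ w ∈ V, x • w ∈ V := fun x w hw => by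
    rcases zc x with h1 | h1
    · rw [h1, zero_smul]; exact zero_mem _
    · rw [h1, one_smul]; exact hw
  rcases h.zero with ⟨hf, b₀, hb₀, hg⟩ | ⟨b₁, hb₁, b₂, hb₂, e1, e2, e3, e4⟩
  · have hB := h.card_BC1 hf
    have key := h.exa.le (E := E) (n := 4) V_le_Eg (Eg_B BV) ![η, a • u, a • η, a • (b₀ • η)] (by
      intro i
      fin_cases i
      · exact le_dbl ηE
      · exact mem_dbl_a uE
      · exact mem_dbl_a ηE
      · exact mem_dbl_a (bηE b₀ hb₀)) (by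
      intro k hk
      have h5 := dsum _ _ _ (hk c hc)
      rw [Fin.sum_univ_four] at h5
      simp only [Matrix.cons_val_zero, Matrix.cons_val_one, Matrix.cons_val] at h5
      have h6 := dsum _ _ _ (hk b₀ hb₀)
      rw [Fin.sum_univ_four] at h6
      simp only [Matrix.cons_val_zero, Matrix.cons_val_one, Matrix.cons_val] at h6
      have e1 := hcb b₀ hb₀
      rw [hf b₀ hb₀, hg, zero_smul, add_zero, one_smul] at e1
      rw [hcη, hcu, hca _ _ hcη, hca _ _ e1, smul_zero, add_zero, hyy] at h5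
      have h7 : k 0 • u + (k 2 + k 3) • (a • u) ∈ V := by
        have h8 : k 0 • u + (k 2 + k 3) • (a • u) + (k 0 • (yv + be • z₃) + k 2 • (a • yv + be • (a • z₃)) +
            k 3 • (a • yv + a • z₂ + be • (a • z₃))) = 0 := by
          rw [← h5]
          simp only [smul_add, add_smul, gs]
          abel
        rw [← eq_iff] at h8
        rw [h8, h.a3, h.a2]
        exact add_mem (add_mem (zV _ _ (add_mem hyv (zV _ _ h.z3))) (zV _ _ (add_mem av (zV _ _ h.z1))))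
          (zV _ _ (add_mem (add_mem av h.z2) (zV _ _ h.z1)))
      obtain ⟨k0, k23⟩ := h.modV h7
      have k32 : k 3 = k 2 := by
        have e : ∀ x y : ZMod 2, x + y = 0 → y = x := by decide
        exact e _ _ k23
      have k2 : k 2 = 0 := by
        rcases zc (k 2) with h8 | h8
        · exact h8
        · exfalso
          rw [k32, k0, h8, zero_smul, zero_add, one_smul, one_smul] at h5
          simp only [smul_add] at h5
          have e : a • u + a • yv + a • be • z₃ + (a • u + a • yv + a • z₂ + a • be • z₃) =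
              (a • u + a • u) + (a • yv + a • yv) + (a • be • z₃ + a • be • z₃) + a • z₂ := by abel
          rw [e, two, two, add_zero, zero_add, two, zero_add, h.a2] at h5
          have := h.ind 0 1 0 (by rw [zero_smul, zero_smul, add_zero, zero_add, one_smul]; exact h5)
          exact one_ne_zero this.2.1
      have k3 : k 3 = 0 := k32.trans k2
      rw [k0, k2, k3, zero_smul, zero_smul, zero_smul, zero_add, add_zero, add_zero] at h6
      have k1 := h.sm_au hb₀ hg h6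
      funext i
      fin_cases i
      · exact k0
      · exact k1
      · exact k2
      · exact k3)
    have : Nat.card B ≤ 8 * Nat.card ↥(cn B E) := by omega
    omega
  · have hB := h.card_BC2
    have key := h.exa.le (E := E) (n := 5) V_le_Eg (Eg_B BV) ![η, a • u, a • η, a • (b₁ • η), a • (b₂ • η)] (by
      intro i
      fin_cases i
      · exact le_dbl ηE
      · exact mem_dbl_a uE
      · exact mem_dbl_a ηE
      · exact mem_dbl_a (bηE b₁ hb₁)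
      · exact mem_dbl_a (bηE b₂ hb₂)) (by
      intro k hk
      have h5 := dsum _ _ _ (hk c hc)
      rw [Fin.sum_univ_five] at h5
      simp only [Matrix.cons_val_zero, Matrix.cons_val_one, Matrix.cons_val] at h5
      have h6 := dsum _ _ _ (hk b₂ hb₂)
      rw [Fin.sum_univ_five] at h6
      simp only [Matrix.cons_val_zero, Matrix.cons_val_one, Matrix.cons_val] at h6
      have f1 := hcb b₁ hb₁
      rw [e1, e2, zero_smul, add_zero, one_smul] at f1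
      have f2 := hcb b₂ hb₂
      rw [e3, e4, zero_smul, add_zero, one_smul] at f2
      rw [hcη, hcu, hca _ _ hcη, hca _ _ f1, hca _ _ f2, smul_zero, add_zero, hyy] at h5
      have h7 : k 0 • u + (k 2 + k 3 + k 4) • (a • u) ∈ V := by
        have h8 : k 0 • u + (k 2 + k 3 + k 4) • (a • u) + (k 0 • (yv + be • z₃) + k 2 • (a • yv + be • (a • z₃)) +
            k 3 • (a • yv + a • z₁ + be • (a • z₃)) + k 4 • (a • yv + a • z₂ + be • (a • z₃))) = 0 := by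
          rw [← h5]
          simp only [smul_add, add_smul, gs]
          abel
        rw [← eq_iff] at h8
        rw [h8, h.a3, h.a2, h.a1]
        exact add_mem (add_mem (add_mem (zV _ _ (add_mem hyv (zV _ _ h.z3))) (zV _ _ (add_mem av (zV _ _ h.z1))))
          (zV _ _ (add_mem (add_mem av h.z3) (zV _ _ h.z1)))) (zV _ _ (add_mem (add_mem av h.z2) (zV _ _ h.z1)))
      obtain ⟨k0, k234⟩ := h.modV h7
      have k24 : k 2 = k 3 + k 4 := by
        have e : ∀ x y z : ZMod 2, x + y + z = 0 → x = y + z := by decide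
        exact e _ _ _ k234
      have h9 : (0 : ZMod 2) • z₁ + k 4 • z₂ + k 3 • z₃ = 0 := by
        rw [k24, k0, zero_smul, zero_add] at h5
        rw [← h5, zero_smul, zero_add, ← h.a1]
        conv_lhs => rw [← h.a2]
        have t1 := two (k 3 • (a • (u + yv + be • z₃)))
        have t2 := two (k 4 • (a • (u + yv + be • z₃)))
        have e : (k 3 + k 4) • (a • (u + yv + be • z₃)) + k 3 • (a • (u + yv + z₁ + be • z₃)) +
            k 4 • (a • (u + yv + z₂ + be • z₃)) = (k 3 • (a • (u + yv + be • z₃)) + k 3 • (a • (u + yv + be • z₃))) +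
            (k 4 • (a • (u + yv + be • z₃)) + k 4 • (a • (u + yv + be • z₃))) + (k 4 • (a • z₂) + k 3 • (a • z₁)) := by
          simp only [smul_add, add_smul]
          abel
        rw [h.a1] at e ⊢
        rw [e, t1, t2, add_zero, zero_add]
      obtain ⟨-, k4, k3⟩ := h.ind _ _ _ h9
      have k2 : k 2 = 0 := by rw [k24, k3, k4, add_zero]
      rw [k0, k2, k3, k4, zero_smul, zero_smul, zero_smul, zero_smul, zero_add, add_zero, add_zero, add_zero] at h6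
      have k1 := h.sm_au hb₂ e4 h6
      funext i
      fin_cases i
      · exact k0
      · exact k1
      · exact k2
      · exact k3
      · exact k4)
    have : Nat.card B ≤ 16 * Nat.card ↥(cn B E) := by omega
    omega

/-- the independent triple gives a contradiction to LEMMA X -/
theorem no_ind {S : Set Y} (hu : u ∈ S) (hS : ∀ c ∈ B, c ∈ C → ∀ s ∈ S, c • s = s ∨ c • s = s + z₃) {n N : ℕ}
    (hN : Nat.card B ≤ N * Nat.card ↥(B ⊓ C)) (hn : N < 2 ^ n) (w : Fin n → Y) (hw : ∀ i, w i ∈ Eg V B S)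
    (hind : ∀ c : Fin n → ZMod 2, (∀ b ∈ B, b • (∑ i, c i • w i) = ∑ i, c i • w i) → c = 0) : False := by
  have := h.exa.finM
  have := h.exa.finY
  have BV := h.exa.BV
  set E := Eg V B S with hE
  have h1 := h.exa.lemX (E := E) V_le_Eg (Eg_B BV) (B₁ := B ⊓ C) inf_le_left (by
    intro b hb
    refine ⟨hb.1, ?_⟩
    change b ∈ C
    rw [h.memC]
    refine ⟨h.BQ hb.1, ?_⟩
    have h2 := hb.2 u (self_Eg hu)
    rw [h.qu' hb.1] at h2
    have h3 : f b • z₁ + g b • z₂ + (0 : ZMod 2) • z₃ = 0 := by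
      rw [zero_smul, add_zero]
      rw [add_assoc] at h2
      exact left_eq_add.1 h2.symm
    exact ⟨(h.ind _ _ _ h3).1, (h.ind _ _ _ h3).2.1⟩) h.z3 (by rw [h.a3]; exact h.z13)
    (fun b hb => Eg_two BV h.Bab hb.1 h.z3 (hS b hb.1 hb.2))
  have h2 := card_ind (E := E) (F := E ⊓ fx Y B) w hw inf_le_left fun c hc => hind c hc.2
  have p1 : 0 < Nat.card ↥(B ⊓ C) := Nat.card_pos
  have p2 : 0 < Nat.card ↥(E ⊓ fx Y B) := Nat.card_pos
  have h3 : 2 ^ n * (Nat.card ↥(E ⊓ fx Y B) * Nat.card ↥(B ⊓ C)) ≤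
      N * (Nat.card ↥(E ⊓ fx Y B) * Nat.card ↥(B ⊓ C)) := by
    calc 2 ^ n * (Nat.card ↥(E ⊓ fx Y B) * Nat.card ↥(B ⊓ C))
        = 2 ^ n * Nat.card ↥(E ⊓ fx Y B) * Nat.card ↥(B ⊓ C) := by ring
      _ ≤ Nat.card E * Nat.card ↥(B ⊓ C) := Nat.mul_le_mul_right _ h2
      _ ≤ Nat.card B * Nat.card ↥(E ⊓ fx Y B) := h1
      _ ≤ N * Nat.card ↥(B ⊓ C) * Nat.card ↥(E ⊓ fx Y B) := Nat.mul_le_mul_right _ hN
      _ = _ := by ring
  have h4 := Nat.le_of_mul_le_mul_right h3 (Nat.mul_pos p2 p1)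
  omega

theorem c_two {r : M} (hr : r ∈ R) (hL : r ∉ L) {c : M} (hc : c ∈ B) (hcC : c ∈ C) :
    c • (r • v) = r • v ∨ c • (r • v) = r • v + z₃ := by
  rw [h.c_rv hr hcC, h.al0 hr hL hc hcC, zero_smul, add_zero]
  rcases zc (g' (r⁻¹ * c * r)) with h1 | h1
  · left; rw [h1, zero_smul, add_zero]
  · right; rw [h1, one_smul]

theorem bz {b : M} (hb : b ∈ B) {w : Y} (hw : w ∈ ZZ u z₁ z₂ z₃) : b • w ∈ ZZ u z₁ z₂ z₃ :=
  h.R_ZZ (h.TR (h.QT (h.BQ hb))) hw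

theorem Du_ZZ {b : M} (hb : b ∈ B) (k : ZMod 2) : k • (b • u + u) ∈ ZZ u z₁ z₂ z₃ :=
  sm_ZZ k (add_mem (h.bz hb u_ZZ) u_ZZ)

/-- (3) -/
theorem three {r : M} (hr : r ∈ R) (hL : r ∉ L) (hf : ∀ b ∈ B, f b = 0) {b₀ : M} (hb₀ : b₀ ∈ B) (hg : g b₀ = 1) :
    ∀ b ∈ B, b • (r • v) + r • v ∈ ZZ u z₁ z₂ z₃ := by
  intro b hb
  by_contra hcon
  refine h.no_ind (S := {u, r • v}) (Or.inl rfl) ?_ (h.card_BC1 hf) (n := 2) (by norm_num) ![u, r • v] ?_ ?_
  · rintro c hc hcC s (hs | hs)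
    · left; rw [hs]; exact h.C_u hcC
    · rw [Set.mem_singleton_iff] at hs
      rw [hs]; exact h.c_two hr hL hc hcC
  · intro i
    fin_cases i
    · exact self_Eg (Or.inl rfl)
    · exact self_Eg (Or.inr rfl)
  · intro k hk
    have h5 := dsum _ _ _ (hk b hb)
    have h6 := dsum _ _ _ (hk b₀ hb₀)
    rw [Fin.sum_univ_two] at h5 h6
    simp only [Matrix.cons_val_zero, Matrix.cons_val_one] at h5 h6
    have k1 : k 1 = 0 := by
      rcases zc (k 1) with h1 | h1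
      · exact h1
      · exfalso
        apply hcon
        rw [h1, one_smul, ← eq_iff] at h5
        rw [← h5]
        exact h.Du_ZZ hb _
    rw [k1, zero_smul, add_zero] at h6
    have k0 := h.sm_u hb₀ hg h6
    funext i
    fin_cases i
    · exact k0
    · exact k1

omit h in
theorem zz_sm {w w' : Y} {x : ZMod 2} (hw : x • w + w' ∈ ZZ u z₁ z₂ z₃) (hx : x = 1) (hw' : w' ∈ ZZ u z₁ z₂ z₃) :
    w ∈ ZZ u z₁ z₂ z₃ := by
  rw [hx, one_smul] at hw
  have := sub_mem hw hw'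
  rwa [add_sub_cancel_right] at this

/-- (4), first part: the sum over `B / B_C` is in `Z''` -/
theorem norm_mem {r : M} (hr : r ∈ R) (hL : r ∉ L) {b₁ b₂ : M} (hb₁ : b₁ ∈ B) (hb₂ : b₂ ∈ B) (g2 : g b₂ = 1)
    {b : M} (hb : b ∈ B) (hcon : b • (r • v) + r • v ∉ ZZ u z₁ z₂ z₃) :
    b₂ • (r • v + b₁ • (r • v)) + (r • v + b₁ • (r • v)) ∈ ZZ u z₁ z₂ z₃ := by
  by_contra hN
  refine h.no_ind (S := {u, r • v}) (Or.inl rfl) ?_ h.card_BC2 (n := 3) (by norm_num) ![u, r • v, b₁ • (r • v)] ?_ ?_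
  · rintro c hc hcC s (hs | hs)
    · left; rw [hs]; exact h.C_u hcC
    · rw [Set.mem_singleton_iff] at hs
      rw [hs]; exact h.c_two hr hL hc hcC
  · intro i
    fin_cases i
    · exact self_Eg (Or.inl rfl)
    · exact self_Eg (Or.inr rfl)
    · exact mem_Eg hb₁ (Or.inr rfl)
  · intro k hk
    have h5 := dsum _ _ _ (hk b hb)
    have h6 := dsum _ _ _ (hk b₂ hb₂)
    rw [Fin.sum_univ_three] at h5 h6
    simp only [Matrix.cons_val_zero, Matrix.cons_val_one, Matrix.cons_val] at h5 h6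
    have k12 : k 1 = 0 ∧ k 2 = 0 := by
      rcases zc (k 1) with h1 | h1 <;> rcases zc (k 2) with h2 | h2
      · exact ⟨h1, h2⟩
      · exfalso
        rw [h1, h2, zero_smul, one_smul, add_zero, ← eq_iff] at h5
        apply hcon
        have h7 : b₁ • (b • (r • v) + r • v) = b • (b₁ • (r • v)) + b₁ • (r • v) := by
          rw [smul_add, ← mul_smul b₁ b, h.Bab b₁ hb₁ b hb, mul_smul]
        have h8 : b • (r • v) + r • v = b₁⁻¹ • (b • (b₁ • (r • v)) + b₁ • (r • v)) := by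
          rw [← h7, inv_smul_smul]
        rw [h8, ← h5]
        exact h.bz (inv_mem hb₁) (h.Du_ZZ hb _)
      · exfalso
        rw [h1, h2, zero_smul, one_smul, add_zero, ← eq_iff] at h5
        apply hcon
        rw [← h5]
        exact h.Du_ZZ hb _
      · exfalso
        rw [h1, h2, one_smul, one_smul, add_assoc, ← eq_iff] at h6
        apply hN
        have h7 : b₂ • (r • v + b₁ • (r • v)) + (r • v + b₁ • (r • v)) =
            (b₂ • (r • v) + r • v) + (b₂ • (b₁ • (r • v)) + b₁ • (r • v)) := by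
          rw [smul_add]; abel
        rw [h7, ← h6]
        exact h.Du_ZZ hb₂ _
    rw [k12.1, k12.2, zero_smul, zero_smul, add_zero, add_zero] at h6
    have k0 := h.sm_u hb₂ g2 h6
    funext i
    fin_cases i
    · exact k0
    · exact k12.1
    · exact k12.2

/-- (4), `al` is `B`-invariant -/
theorem al_B {r : M} (hr : r ∈ R) (hL : r ∉ L) {b₁ b₂ : M} (hb₁ : b₁ ∈ B) (hb₂ : b₂ ∈ B)
    (e1 : f b₁ = 1) (e2 : g b₁ = 0) (e3 : f b₂ = 0) (e4 : g b₂ = 1)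
    (hN : b₂ • (r • v + b₁ • (r • v)) + (r • v + b₁ • (r • v)) ∈ ZZ u z₁ z₂ z₃) {c : M} (hc : c ∈ C) :
    f' (r⁻¹ * (b₁⁻¹ * c * b₁) * r) = f' (r⁻¹ * c * r) ∧ f' (r⁻¹ * (b₂⁻¹ * c * b₂) * r) = f' (r⁻¹ * c * r) := by
  have hBR : ∀ b ∈ B, b ∈ R := fun b hb => h.TR (h.QT (h.BQ hb))
  set y := r • z₁ with hy
  have key : ∀ b ∈ B, c • (b • (r • v)) + b • (r • v) = f' (r⁻¹ * (b⁻¹ * c * b) * r) • (y + f b • z₁ + g b • z₂) +
      g' (r⁻¹ * (b⁻¹ * c * b) * r) • z₃ := by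
    intro b hb
    have h1 : c • (b • (r • v)) = b • ((b⁻¹ * c * b) • (r • v)) := by
      generalize r • v = w
      rw [← mul_smul, ← mul_smul]; congr 1; group
    rw [h1, h.c_rv hr (h.Cn' (hBR b hb) hc), smul_add, smul_add, gs, gs, h.q_y (h.BQ hb) hr hL, h.B_V hb h.z3]
    have e : b • (r • v) + f' (r⁻¹ * (b⁻¹ * c * b) * r) • (r • z₁ + f b • z₁ + g b • z₂) +
        g' (r⁻¹ * (b⁻¹ * c * b) * r) • z₃ + b • (r • v) = (b • (r • v) + b • (r • v)) +
        (f' (r⁻¹ * (b⁻¹ * c * b) * r) • (r • z₁ + f b • z₁ + g b • z₂) + g' (r⁻¹ * (b⁻¹ * c * b) * r) • z₃) := by abel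
    rw [e, two, zero_add]
  have hb12 : b₂ * b₁ ∈ B := mul_mem hb₂ hb₁
  have k0 := key 1 (one_mem _)
  have k1 := key b₁ hb₁
  have k2 := key b₂ hb₂
  have k12 := key (b₂ * b₁) hb12
  have f12 : f (b₂ * b₁) = 1 ∧ g (b₂ * b₁) = 1 := by
    rw [(h.fg_mul (h.BQ hb₂) (h.BQ hb₁)).1, (h.fg_mul (h.BQ hb₂) (h.BQ hb₁)).2, e1, e2, e3, e4]
    decide
  rw [one_smul, inv_one, one_mul, mul_one, h.fg_one.1, h.fg_one.2, zero_smul, zero_smul, add_zero, add_zero] at k0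
  rw [e1, e2, one_smul, zero_smul, add_zero] at k1
  rw [e3, e4, zero_smul, add_zero, one_smul] at k2
  rw [f12.1, f12.2, one_smul, one_smul, mul_smul] at k12
  have h1 := h.C_ZZ hc hN
  have h2 : (c • (r • v) + r • v) + (c • (b₁ • (r • v)) + b₁ • (r • v)) + (c • (b₂ • (r • v)) + b₂ • (r • v)) +
      (c • (b₂ • (b₁ • (r • v))) + b₂ • (b₁ • (r • v))) = 0 := by
    rw [eq_iff] at h1
    rw [← h1]
    simp only [smul_add]
    abel
  rw [k0, k1, k2, k12] at h2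
  set A0 := f' (r⁻¹ * c * r)
  set A1 := f' (r⁻¹ * (b₁⁻¹ * c * b₁) * r)
  set A2 := f' (r⁻¹ * (b₂⁻¹ * c * b₂) * r)
  set A3 := f' (r⁻¹ * ((b₂ * b₁)⁻¹ * c * (b₂ * b₁)) * r)
  set B0 := g' (r⁻¹ * c * r)
  set B1 := g' (r⁻¹ * (b₁⁻¹ * c * b₁) * r)
  set B2 := g' (r⁻¹ * (b₂⁻¹ * c * b₂) * r)
  set B3 := g' (r⁻¹ * ((b₂ * b₁)⁻¹ * c * (b₂ * b₁)) * r)
  obtain ⟨y1, y2, hyy⟩ := h.R_out hr hL
  rw [← hy] at hyy
  have h3 : (A0 + A1 + A2 + A3) • u + (A1 + A3 + (A0 + A1 + A2 + A3) * y1) • z₁ +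
      (A2 + A3 + (A0 + A1 + A2 + A3) * y2) • z₂ + (B0 + B1 + B2 + B3) • z₃ = 0 := by
    rw [← h2, hyy]
    simp only [smul_add, add_smul, add_mul, mul_smul]
    abel
  obtain ⟨h4, h5, h6, -⟩ := h.ind4 h3
  rw [h4, zero_mul, add_zero] at h5 h6
  have e : ∀ x y z w : ZMod 2, x + y + z + w = 0 → y + w = 0 → z + w = 0 → y = x ∧ z = x := by decide
  exact e _ _ _ _ h4 h5 h6

/-- `al` is `R`-invariant -/
theorem al_R {r : M} (hr : r ∈ R) (hL : r ∉ L) {b₁ b₂ : M} (hb₁ : b₁ ∈ B) (hb₂ : b₂ ∈ B)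
    (e1 : f b₁ = 1) (e2 : g b₁ = 0) (e3 : f b₂ = 0) (e4 : g b₂ = 1)
    (hN : b₂ • (r • v + b₁ • (r • v)) + (r • v + b₁ • (r • v)) ∈ ZZ u z₁ z₂ z₃) :
    ∀ x ∈ R, ∀ c ∈ C, f' (r⁻¹ * (x⁻¹ * c * x) * r) = f' (r⁻¹ * c * r) := by
  have hCR : C ≤ R := h.C_le_Q.trans (h.QT.trans h.TR)
  let X : Subgroup M :=
    { carrier := {x | x ∈ R ∧ ∀ c ∈ C, f' (r⁻¹ * (x⁻¹ * c * x) * r) = f' (r⁻¹ * c * r)}
      mul_mem' := by
        rintro x y ⟨hx, hx'⟩ ⟨hy, hy'⟩
        refine ⟨mul_mem hx hy, fun c hc => ?_⟩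
        have e : r⁻¹ * ((x * y)⁻¹ * c * (x * y)) * r = r⁻¹ * (y⁻¹ * (x⁻¹ * c * x) * y) * r := by group
        rw [e, hy' _ (h.Cn' hx hc), hx' c hc]
      one_mem' := ⟨one_mem _, fun c _ => by rw [inv_one, one_mul, mul_one]⟩
      inv_mem' := by
        rintro x ⟨hx, hx'⟩
        refine ⟨inv_mem hx, fun c hc => ?_⟩
        have h1 := hx' _ (h.Cn' (inv_mem hx) hc)
        have e : x⁻¹ * (x⁻¹⁻¹ * c * x⁻¹) * x = c := by group
        rw [e] at h1
        exact h1.symm }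
  have hXR : X ≤ R := fun x hx => hx.1
  have hbX : ∀ b ∈ B, (∀ c ∈ C, f' (r⁻¹ * (b⁻¹ * c * b) * r) = f' (r⁻¹ * c * r)) → b ∈ X := fun b hb hh =>
    ⟨h.TR (h.QT (h.BQ hb)), hh⟩
  have h1 : b₁ ∈ X := hbX b₁ hb₁ fun c hc => (h.al_B hr hL hb₁ hb₂ e1 e2 e3 e4 hN hc).1
  have h2 : b₂ ∈ X := hbX b₂ hb₂ fun c hc => (h.al_B hr hL hb₁ hb₂ e1 e2 e3 e4 hN hc).2
  have hCX : C ≤ X := by
    intro c' hc'
    refine ⟨hCR hc', fun c hc => ?_⟩
    have e : r⁻¹ * (c'⁻¹ * c * c') * r = (r⁻¹ * c' * r)⁻¹ * (r⁻¹ * c * r) * (r⁻¹ * c' * r) := by group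
    rw [e, h.f'_conj (h.C_le_Q (h.Cn' hr hc')) (h.C_le_Q (h.Cn' hr hc))]
  have hQX : Q ≤ X := by
    intro q hq
    have key : ∀ b ∈ B, b ∈ X → f b = f q → g b = g q → q ∈ X := by
      intro b hb hbX hf hg
      have h3 := hCX (h.mem_C_of (h.BQ hb) hq hf hg)
      have h4 : q = b * (b⁻¹ * q) := by group
      rw [h4]
      exact mul_mem hbX h3
    rcases zc (f q) with h3 | h3 <;> rcases zc (g q) with h4 | h4
    · exact key 1 (one_mem _) (one_mem _) (by rw [h.fg_one.1, h3]) (by rw [h.fg_one.2, h4])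
    · exact key b₂ hb₂ h2 (by rw [e3, h3]) (by rw [e4, h4])
    · exact key b₁ hb₁ h1 (by rw [e1, h3]) (by rw [e2, h4])
    · refine key (b₁ * b₂) (mul_mem hb₁ hb₂) (mul_mem h1 h2) ?_ ?_
      · rw [(h.fg_mul (h.BQ hb₁) (h.BQ hb₂)).1, e1, e3, h3]; decide
      · rw [(h.fg_mul (h.BQ hb₁) (h.BQ hb₂)).2, e2, e4, h4]; decide
  have hX : X = R := by
    refine h.gen' hXR hQX hr hL fun q hq => ?_
    refine ⟨mul_mem (mul_mem hr (h.TR (h.QT hq))) (inv_mem hr), fun c hc => ?_⟩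
    have e : r⁻¹ * ((r * q * r⁻¹)⁻¹ * c * (r * q * r⁻¹)) * r = q⁻¹ * (r⁻¹ * c * r) * q := by group
    rw [e, h.f'_conj hq (h.C_le_Q (h.Cn' hr hc))]
  intro x hx
  rw [← hX] at hx
  exact hx.2

/-- (4) -/
theorem four {r : M} (hr : r ∈ R) (hL : r ∉ L) {b₁ b₂ : M} (hb₁ : b₁ ∈ B) (hb₂ : b₂ ∈ B)
    (e1 : f b₁ = 1) (e2 : g b₁ = 0) (e3 : f b₂ = 0) (e4 : g b₂ = 1) :
    ∀ b ∈ B, b • (r • v) + r • v ∈ ZZ u z₁ z₂ z₃ := by
  intro b hb
  by_contra hcon
  have hN := h.norm_mem hr hL hb₁ hb₂ e4 hb hcon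
  have hal := h.al_R hr hL hb₁ hb₂ e1 e2 e3 e4 hN
  -- `al = f'` on `C`
  have h1 : ∀ c ∈ C, f' (r⁻¹ * c * r) = f' c := by
    intro c hc
    have h2 := hal r⁻¹ (inv_mem hr) c hc
    have e : r⁻¹ * (r⁻¹⁻¹ * c * r⁻¹) * r = c := by group
    rw [e] at h2
    exact h2.symm
  have h2 : ∀ c ∈ B, c ∈ C → f' (t⁻¹ * c * t) = 0 := by
    intro c hc hcC
    have h3 := hal t (h.TR h.tT) c hcC
    rw [h1 _ (h.Cn' (h.TR h.tT) hcC)] at h3
    rw [h3, h.al0 hr hL hc hcC]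
  obtain ⟨b₃, hb₃, hb₃'⟩ := h.B_tv
  refine h.no_ind (S := {u, r • v, t • v}) (Or.inl rfl) ?_ h.card_BC2 (n := 3) (by norm_num) ![u, r • v, t • v] ?_ ?_
  · rintro c hc hcC s (hs | hs | hs)
    · left; rw [hs]; exact h.C_u hcC
    · rw [hs]; exact h.c_two hr hL hc hcC
    · rw [Set.mem_singleton_iff] at hs
      rw [hs, h.q_tv (h.BQ hc), h2 c hc hcC, zero_smul, add_zero]
      rcases zc (g' (t⁻¹ * c * t)) with h3 | h3
      · left; rw [h3, zero_smul, add_zero]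
      · right; rw [h3, one_smul]
  · intro i
    fin_cases i
    · exact self_Eg (Or.inl rfl)
    · exact self_Eg (Or.inr (Or.inl rfl))
    · exact self_Eg (Or.inr (Or.inr rfl))
  · intro k hk
    have D : ∀ b ∈ B, b • (t • v) + t • v = f' (t⁻¹ * b * t) • z₂ + g' (t⁻¹ * b * t) • z₃ := by
      intro b hb
      rw [h.q_tv (h.BQ hb)]
      have e : t • v + f' (t⁻¹ * b * t) • z₂ + g' (t⁻¹ * b * t) • z₃ + t • v =
        (t • v + t • v) + (f' (t⁻¹ * b * t) • z₂ + g' (t⁻¹ * b * t) • z₃) := by abel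
      rw [e, two, zero_add]
    have h5 := dsum _ _ _ (hk b hb)
    have h6 := dsum _ _ _ (hk b₁ hb₁)
    have h7 := dsum _ _ _ (hk b₃ hb₃)
    rw [Fin.sum_univ_three] at h5 h6 h7
    simp only [Matrix.cons_val_zero, Matrix.cons_val_one, Matrix.cons_val] at h5 h6 h7
    have k1 : k 1 = 0 := by
      rcases zc (k 1) with h8 | h8
      · exact h8
      · exfalso
        rw [h8, one_smul, D b hb] at h5
        apply hcon
        have h9 : b • (r • v) + r • v = k 0 • (b • u + u) + k 2 • (f' (t⁻¹ * b * t) • z₂ + g' (t⁻¹ * b * t) • z₃) := by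
          rw [eq_iff, ← h5]; abel
        rw [h9]
        exact add_mem (h.Du_ZZ hb _) (sm_ZZ _ (add_mem (sm_ZZ _ z2_ZZ) (sm_ZZ _ z3_ZZ)))
    rw [k1, zero_smul, add_zero] at h6 h7
    rw [D b₁ hb₁, h.D_u hb₁, e1, e2, one_smul, zero_smul, add_zero] at h6
    have h8 : k 0 • z₁ + (k 2 * f' (t⁻¹ * b₁ * t)) • z₂ + (k 2 * g' (t⁻¹ * b₁ * t)) • z₃ = 0 := by
      rw [← h6, smul_add, mul_smul, mul_smul]; abel
    have k0 := (h.ind _ _ _ h8).1
    have k2 : k 2 = 0 := by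
      rcases zc (k 2) with h9 | h9
      · exact h9
      · exfalso
        rw [k0, h9, zero_smul, zero_add, one_smul, ← eq_iff] at h7
        exact hb₃' h7
    funext i
    fin_cases i
    · exact k0
    · exact k1
    · exact k2

/-- (3), (4): `B` fixes `u₁₃ ^ r Z''` -/
theorem fix_eta {r : M} (hr : r ∈ R) (hL : r ∉ L) : ∀ b ∈ B, b • (r • v) + r • v ∈ ZZ u z₁ z₂ z₃ := by
  rcases h.zero with ⟨hf, b₀, hb₀, hg⟩ | ⟨b₁, hb₁, b₂, hb₂, e1, e2, e3, e4⟩
  · exact h.three hr hL hf hb₀ hg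
  · exact h.four hr hL hb₁ hb₂ e1 e2 e3 e4

/-- the stabiliser of `w Z''` in `R` -/
def stab (w : Y) : Subgroup M where
  carrier := {x | x ∈ R ∧ x • w + w ∈ ZZ u z₁ z₂ z₃}
  mul_mem' := by
    rintro x y ⟨hx, hx'⟩ ⟨hy, hy'⟩
    refine ⟨mul_mem hx hy, ?_⟩
    have h1 := add_mem (h.R_ZZ hx hy') hx'
    have e : x • (y • w + w) + (x • w + w) = (x * y) • w + w := by
      rw [smul_add, mul_smul, add_assoc, ← add_assoc (x • w), two, zero_add]
    rwa [e] at h1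
  one_mem' := ⟨one_mem _, by rw [one_smul, two]; exact zero_mem _⟩
  inv_mem' := by
    rintro x ⟨hx, hx'⟩
    refine ⟨inv_mem hx, ?_⟩
    have h1 := h.R_ZZ (inv_mem hx) hx'
    rwa [smul_add, inv_smul_smul, add_comm] at h1

theorem mem_stab {w : Y} {x : M} : x ∈ h.stab w ↔ x ∈ R ∧ x • w + w ∈ ZZ u z₁ z₂ z₃ := Iff.rfl

/-- (5): `Q` fixes `u₁₃ ^ r Z''` -/
theorem Q_eta {r : M} (hr : r ∈ R) (hL : r ∉ L) : ∀ q ∈ Q, q • (r • v) + r • v ∈ ZZ u z₁ z₂ z₃ := by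
  have hCR : C ≤ R := h.C_le_Q.trans (h.QT.trans h.TR)
  have hBs : B ≤ h.stab (r • v) := fun b hb => ⟨h.TR (h.QT (h.BQ hb)), h.fix_eta hr hL b hb⟩
  have htR := h.TR h.tT
  have htL : t * r ∉ L := fun h1 => hL (by
    have := mul_mem (inv_mem (h.TL h.tT)) h1
    rwa [inv_mul_cancel_left] at this)
  have hBt : ∀ b ∈ B, t⁻¹ * b * t ∈ h.stab (r • v) := by
    intro b hb
    have h1 := h.fix_eta (mul_mem htR hr) htL b hb
    have h2 := h.R_ZZ (inv_mem htR) h1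
    refine ⟨mul_mem (mul_mem (inv_mem htR) (h.TR (h.QT (h.BQ hb)))) htR, ?_⟩
    have e : t⁻¹ • (b • ((t * r) • v) + (t * r) • v) = (t⁻¹ * b * t) • (r • v) + r • v := by
      rw [smul_add, mul_smul t r, inv_smul_smul, mul_smul, mul_smul]
    rwa [e] at h2
  have hCs : C ≤ h.stab (r • v) := by
    intro c hc
    refine ⟨hCR hc, ?_⟩
    rw [h.c_rv hr hc]
    have e : r • v + f' (r⁻¹ * c * r) • r • z₁ + g' (r⁻¹ * c * r) • z₃ + r • v =
        (r • v + r • v) + (f' (r⁻¹ * c * r) • r • z₁ + g' (r⁻¹ * c * r) • z₃) := by abel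
    rw [e, two, zero_add]
    exact add_mem (sm_ZZ _ (h.R_z1 hr)) (sm_ZZ _ z3_ZZ)
  -- an element with `(f, g) = (1, 0)` and one with `(0, 1)`
  obtain ⟨p₁, hp₁Q, hp₁, p₂, hp₂Q, hp₂, e1, e2, e3, e4⟩ : ∃ p₁ ∈ Q, p₁ ∈ h.stab (r • v) ∧ ∃ p₂ ∈ Q,
      p₂ ∈ h.stab (r • v) ∧ f p₁ = 1 ∧ g p₁ = 0 ∧ f p₂ = 0 ∧ g p₂ = 1 := by
    rcases h.zero with ⟨hf, b₀, hb₀, hg⟩ | ⟨b₁, hb₁, b₂, hb₂, e1, e2, e3, e4⟩
    · have hQ' := h.Qn t h.tT b₀ (h.BQ hb₀)
      -- `[u, t⁻¹ b₀ t] = z₁`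
      have h1 : (t⁻¹ * b₀ * t) • u = u + z₁ := by
        obtain ⟨x, y, htu⟩ := h.tu
        have h0 : b₀ • (u + x • z₁ + y • z₂) = u + z₂ + x • z₁ + y • z₂ := by
          rw [smul_add, smul_add, gs, gs, h.B_V hb₀ h.z1, h.B_V hb₀ h.z2, h.qu' hb₀,
            hf b₀ hb₀, hg, zero_smul, add_zero, one_smul]
        rw [mul_smul, mul_smul, htu, h0]
        have e : u + z₂ + x • z₁ + y • z₂ = (u + x • z₁ + y • z₂) + z₂ := by abel
        rw [e, ← htu, smul_add, inv_smul_smul, ← h.t1, inv_smul_smul]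
      have h2 := h.qu _ hQ'
      rw [h1] at h2
      have h3 : (1 + f (t⁻¹ * b₀ * t)) • z₁ + g (t⁻¹ * b₀ * t) • z₂ + (0 : ZMod 2) • z₃ = 0 := by
        rw [eq_iff] at h2
        have e : u + z₁ + (u + f (t⁻¹ * b₀ * t) • z₁ + g (t⁻¹ * b₀ * t) • z₂) =
            (u + u) + ((1 + f (t⁻¹ * b₀ * t)) • z₁ + g (t⁻¹ * b₀ * t) • z₂) := by
          rw [add_smul, one_smul]; abel
        rw [e, two, zero_add] at h2
        rw [zero_smul, add_zero]
        exact h2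
      obtain ⟨h4, h5, -⟩ := h.ind _ _ _ h3
      have e : ∀ x : ZMod 2, 1 + x = 0 → x = 1 := by decide
      exact ⟨_, hQ', hBt b₀ hb₀, b₀, h.BQ hb₀, hBs hb₀, e _ h4, h5, hf b₀ hb₀, hg⟩
    · exact ⟨b₁, h.BQ hb₁, hBs hb₁, b₂, h.BQ hb₂, hBs hb₂, e1, e2, e3, e4⟩
  intro q hq
  have key : ∀ b ∈ Q, b ∈ h.stab (r • v) → f b = f q → g b = g q → q ∈ h.stab (r • v) := by
    intro b hb hbX hf hg
    have h3 := hCs (h.mem_C_of hb hq hf hg)
    have h4 : q = b * (b⁻¹ * q) := by group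
    rw [h4]
    exact mul_mem hbX h3
  have : q ∈ h.stab (r • v) := by
    rcases zc (f q) with h3 | h3 <;> rcases zc (g q) with h4 | h4
    · exact key 1 (one_mem _) (one_mem _) (by rw [h.fg_one.1, h3]) (by rw [h.fg_one.2, h4])
    · exact key p₂ hp₂Q hp₂ (by rw [e3, h3]) (by rw [e4, h4])
    · exact key p₁ hp₁Q hp₁ (by rw [e1, h3]) (by rw [e2, h4])
    · refine key (p₁ * p₂) (mul_mem hp₁Q hp₂Q) (mul_mem hp₁ hp₂) ?_ ?_
      · rw [(h.fg_mul hp₁Q hp₂Q).1, e1, e3, h3]; decide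
      · rw [(h.fg_mul hp₁Q hp₂Q).2, e2, e4, h4]; decide
  exact this.2

/-- **THEOREM (C+), (5)**: `R` fixes `u₁₃ Z''`. -/
theorem fix13 (hRL : ¬ R ≤ L) : ∀ x ∈ R, x • v + v ∈ ZZ u z₁ z₂ z₃ := by
  obtain ⟨r, hr, hL⟩ := SetLike.not_le_iff_exists.1 hRL
  have hX : h.stab v = R := by
    refine h.gen' (fun x hx => hx.1) ?_ (inv_mem hr) (fun h1 => hL (by have := inv_mem h1; rwa [inv_inv] at this)) ?_
    · intro q hq
      refine ⟨h.TR (h.QT hq), ?_⟩
      rw [h.qv q hq]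
      have e : v + f' q • z₁ + g' q • z₃ + v = (v + v) + (f' q • z₁ + g' q • z₃) := by abel
      rw [e, two, zero_add]
      exact add_mem (sm_ZZ _ z1_ZZ) (sm_ZZ _ z3_ZZ)
    · intro q hq
      rw [inv_inv]
      refine ⟨mul_mem (mul_mem (inv_mem hr) (h.TR (h.QT hq))) hr, ?_⟩
      have h1 := h.R_ZZ (inv_mem hr) (h.Q_eta hr hL q hq)
      have e : r⁻¹ • (q • (r • v) + r • v) = (r⁻¹ * q * r) • v + v := by
        rw [smul_add, inv_smul_smul, mul_smul, mul_smul]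
      rwa [e] at h1
  intro x hx
  rw [← hX] at hx
  exact hx.2

/-- `u₂₃ ∉ u₁₃ V` -/
theorem tv_V : t • v + v ∉ V := by
  intro h1
  -- `f' q = 1`, `g' q = 0`
  obtain ⟨q, hq, hf, hg⟩ := h.onv 1 0
  have h2 := h.QV q hq _ h1
  rw [smul_add, h.q_tv hq, h.qv q hq, hf, hg, one_smul, zero_smul, add_zero] at h2
  have e : t • v + f' (t⁻¹ * q * t) • z₂ + g' (t⁻¹ * q * t) • z₃ + (v + z₁) =
      (t • v + v) + ((1 : ZMod 2) • z₁ + f' (t⁻¹ * q * t) • z₂ + g' (t⁻¹ * q * t) • z₃) := by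
    rw [one_smul]; abel
  rw [e] at h2
  exact one_ne_zero (h.ind _ _ _ (left_eq_add.1 h2.symm)).1

/-- **THEOREM (C+)**: `u₁₂ u₁₃ u₂₃ ∈ ⟨z₁, z₂, z₃⟩`. -/
theorem dep (hRL : ¬ R ≤ L) : ∃ x y z : ZMod 2, u + v + t • v = x • z₁ + y • z₂ + z • z₃ := by
  obtain ⟨k, x, y, z, h1⟩ := h.fix13 hRL t (h.TR h.tT)
  rcases zc k with rfl | rfl
  · exfalso
    apply h.tv_V
    rw [h1, zero_smul, zero_add]
    exact h.ze x y z
  · refine ⟨x, y, z, ?_⟩
    rw [one_smul] at h1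
    have e : u + v + t • v = u + (t • v + v) := by abel
    rw [e, h1]
    have e' : u + (u + x • z₁ + y • z₂ + z • z₃) = (u + u) + (x • z₁ + y • z₂ + z • z₃) := by abel
    rw [e', two, zero_add]

/-- (C): the functionals on `Q` -/
theorem cc (hRL : ¬ R ≤ L) {q : M} (hq : q ∈ Q) :
    f q = f' q ∧ g q = f' (t⁻¹ * q * t) ∧ g' q = g' (t⁻¹ * q * t) := by
  obtain ⟨x, y, z, h1⟩ := h.dep hRL
  have h2 := congrArg (fun w => q • w) h1
  simp only [smul_add, gs] at h2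
  rw [h.qu q hq, h.qv q hq, h.q_tv hq, h.QV q hq _ h.z1, h.QV q hq _ h.z2, h.QV q hq _ h.z3, ← h1] at h2
  have h3 : (f q + f' q) • z₁ + (g q + f' (t⁻¹ * q * t)) • z₂ + (g' q + g' (t⁻¹ * q * t)) • z₃ = 0 := by
    rw [eq_iff] at h2
    have e : u + f q • z₁ + g q • z₂ + (v + f' q • z₁ + g' q • z₃) + (t • v + f' (t⁻¹ * q * t) • z₂ +
        g' (t⁻¹ * q * t) • z₃) + (u + v + t • v) = (u + u) + (v + v) + (t • v + t • v) +
        ((f q + f' q) • z₁ + (g q + f' (t⁻¹ * q * t)) • z₂ + (g' q + g' (t⁻¹ * q * t)) • z₃) := by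
      simp only [add_smul]
      abel
    rw [e, two, two, add_zero, zero_add, two, zero_add] at h2
    exact h2
  obtain ⟨h4, h5, h6⟩ := h.ind _ _ _ h3
  have e : ∀ x y : ZMod 2, x + y = 0 → x = y := by decide
  exact ⟨e _ _ h4, e _ _ h5, e _ _ h6⟩

end Cfsg.Agent.Omega.NO3S.SN2.CPlus.Fr
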